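import Cfsg.Agent.H378.Eng.Expo
import Cfsg.Agent.H378.UnipCent
import Cfsg.Agent.H720.TorusReal

/-!
# Pairs of commuting semisimple and unipotent elements of `Y^σ` (helper378)

`Y = D.group k`, `σ` a Frobenius frame automorphism with lattice part `g`, `s, u ∈ Y^σ` commuting, `s` of order prime to
`p`, `u` of `p`-power order.  `exists_pair`: there is `w` such that for every `v` there is `t ∈ T` conjugate to `s` with
`χ_t (v w g v⁻¹ x) = χ_t(x) ^ q`, and `u ^ p ^ c = 1` as soon as no root is a sum of `p ^ c` positive roots trivial on `t`.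
-/

set_option autoImplicit false
set_option linter.unusedSectionVars false

namespace Cfsg.Agent.H378.Eng

open CoxeterSystem Cfsg Cfsg.Lie Cfsg.Lie.ChevalleyDatum
open Cfsg.Agent.ChevalleyStructure Cfsg.Agent.ChevalleyStructure.Elts Cfsg.Agent.ChevalleyStructure.CoxeterGeom
  Cfsg.Agent.ChevalleyStructure.CoxeterGeomTypes Cfsg.Agent.ChevalleyStructure.NPerm
open Cfsg.Agent.Tits.Roots Cfsg.Agent.Tits.Core Cfsg.Agent.Nodes Cfsg.Agent.Nodes.Reps Cfsg.Agent.Nodes.BNOf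
  Cfsg.Agent.Nodes.RGDChev Cfsg.Agent.Nodes.Bruhat
open Cfsg.Agent.KFacts.RgdField Cfsg.Agent.KFacts.RgdChevCoord
open Cfsg.Agent.BpExc Cfsg.Agent.BpExc.TorCent Cfsg.Agent.BpExc.TorChev Cfsg.Agent.BpExc.Tow
  Cfsg.Agent.BpExc.TowChev Cfsg.Agent.BpExc.Fr Cfsg.Agent.BpExc.NInst Cfsg.Agent.BpExc.LangFr
open Cfsg.Agent.H129.TorusChar

universe u v

variable {D : ChevalleyDatum} {l : ℕ} {M : CoxeterMatrix (Fin l)} (hp : IsType D l M) {k : Type u} [Field k]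
  {W : Type v} [Group W] (cs : CoxeterSystem M W)

/-- the positive roots trivial on `t` -/
def SR (t : ↥(D.group k)) : Set (Fin l → ℤ) := {a | IsRoot cs hp.isCartan a ∧ 0 ≤ a ∧ cX hp t a = 1}

theorem SR_eq {t : ↥(D.group k)} (ht : t ∈ TT D k) : SP (Sx cs hp.isCartan (ch hp) t) = SR hp cs t := by
  ext a
  constructor
  · rintro ⟨⟨h1, h2⟩, h3⟩
    exact ⟨h1, h3, by rw [cX_root hp cs ht h1, h2]⟩
  · rintro ⟨h1, h3, h2⟩
    exact ⟨⟨h1, by rw [← cX_root hp cs ht h1, h2]⟩, h3⟩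

theorem clo_SR {t : ↥(D.group k)} (ht : t ∈ TT D k) : Expo.Clo hp cs (SR hp cs t) where
  root a ha := ha.1
  pos a ha := ha.2.1
  clo a ha b hb i j _ _ hr := by
    refine ⟨hr, add_nonneg (nsmul_nonneg ha.2.1 i) (nsmul_nonneg hb.2.1 j), ?_⟩
    have hmc := isMC_cX hp ht
    have h1 : ∀ (n : ℕ) (x : Fin l → ℤ), cX hp t x = 1 → cX hp t (n • x) = 1 := by
      intro n x hx
      rw [← natCast_zsmul, hmc.zsmul, hx, one_zpow]
    rw [hmc.add, h1 i a ha.2.2, h1 j b hb.2.2, one_mul]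

variable {p e : ℕ} [Fact p.Prime] [CharP k p] {σ : MulAut ↥(D.group k)} {g : (Fin l → ℤ) ≃+ (Fin l → ℤ)}

theorem exists_pair [IsAlgClosed k] [Finite W] (hka : BpExc.TorAll.HAlg p k) (hk : LocFin k) (hσ : IsFrob p e σ)
    (F : Fr cs hp.isCartan (TT D k) (XX D l k) σ g) {N : ℤ}
    (hNht : ∀ a, IsRoot cs hp.isCartan a → 0 ≤ a → Tits.Roots.ht a < N) {s u : ↥(D.group k)} (hσs : σ s = s)
    (hsu : u * s = s * u) {m : ℕ} (hm : m ≠ 0) (hmp : m.Coprime p) (hsm : s ^ m = 1) {j : ℕ} (huj : u ^ p ^ j = 1) :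
    ∃ w : W, ∀ v : W, ∃ t ∈ TT D k,
      (∀ x, cX hp t (rep cs hp.isCartan v (rep cs hp.isCartan w (g (rep cs hp.isCartan v⁻¹ x)))) =
        cX hp t x ^ p ^ e) ∧
      (∀ a b : ℕ, (∀ j, cX hp t (sr j) ^ a = cX hp t (sr j) ^ b) → s ^ a = s ^ b) ∧
      ∀ c : ℕ, Expo.dep (SR hp cs t) (p ^ c) = ∅ → u ^ p ^ c = 1 := by
  have H := tow (k := k) hp cs hk p
  have hN : NSys M (TT D k) (nc hp k) := by
    have h1 := H.nsys
    rwa [TL_eq hp hk] at h1
  obtain ⟨z₁, t, n, w, hx, ht, hn, hnt⟩ := H720.TorusReal.exists_toral hp cs hka hk F hN hσs hm hmp hsm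
  have hchi : ∀ x, cX hp t (rep cs hp.isCartan w (g x)) = cX hp t x ^ p ^ e := by
    intro x
    have F1 := H720.TorusReal.fr_conj hp cs hk p hn
    have F2 : Fr cs hp.isCartan (TT D k) (XX D l k) (MulAut.conj n * σ)
        (g.trans (repAut cs hp.isCartan w)) := F1.mul F
    have h1 := cX_sigma hp cs (hσ.conj_mul n) F2 ht x
    have h2 : (MulAut.conj n * σ) t = t := hnt
    rw [h2] at h1
    exact h1
  refine ⟨w, fun v => ?_⟩
  obtain ⟨g', hg⟩ := exists_rp cs hN v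
  set t' := g' * t * g'⁻¹ with ht'
  have htT : t' ∈ TT D k := (Subgroup.mem_normalizer_iff.1 hg.mem_normalizer t).1 ht
  set z := z₁ * g'⁻¹ with hz
  have hs : s = z * t' * z⁻¹ := by rw [hx, ht', hz]; group
  refine ⟨t', htT, ?_, ?_, ?_⟩
  · intro x
    rw [ht', cX_rp hp cs hk p hg ht, hchi, ← cX_rp hp cs hk p hg ht, rep_apply_inv]
  · intro a b h1
    have h2 : t' ^ a = t' ^ b := cX_inj hp (pow_mem htT a) (pow_mem htT b) fun j => by
      rw [cX_pow hp htT, cX_pow hp htT, h1]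
    have h3 : ∀ n : ℕ, s ^ n = z * t' ^ n * z⁻¹ := fun n => by rw [hs]; exact conj_pow
    rw [h3, h3, h2]
  · intro c hc
    obtain ⟨g₂, hg₂, hU⟩ := UnipCent.exists_conj hp cs hk (p := p) htT (u := z⁻¹ * u * z) (j := j) (by
      have h1 : t' = z⁻¹ * s * z := by rw [hs]; group
      rw [h1]
      calc z⁻¹ * u * z * (z⁻¹ * s * z) = z⁻¹ * (u * s) * z := by group
        _ = z⁻¹ * (s * u) * z := by rw [hsu]
        _ = _ := by group) (by
      have h1 := conj_pow (a := z⁻¹) (b := u) (i := p ^ j)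
      rw [inv_inv] at h1
      rw [h1, huj]; group)
    rw [SR_eq hp cs htT] at hU
    have h4 := (clo_SR hp cs htT).pow_eq_one hk p (fun a ha => hNht a ha.1 ha.2.1) hU hc
    have h2 : u = (g₂ * z⁻¹)⁻¹ * (g₂ * (z⁻¹ * u * z) * g₂⁻¹) * (g₂ * z⁻¹) := by group
    have h3 := conj_pow (a := (g₂ * z⁻¹)⁻¹) (b := g₂ * (z⁻¹ * u * z) * g₂⁻¹) (i := p ^ c)
    rw [inv_inv] at h3
    rw [h2, h3, h4]; group

end Cfsg.Agent.H378.Eng
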