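import Cfsg.Agent.H378.Eng.Cls
import Cfsg.Agent.H378.Eng.Pair

/-!
# Chains of positive roots by tables (helper378)

`P` a subgroup of the root lattice, `S` the positive roots in `P`.  Every `z ∈ dep S (n + 1)` is the root of a state
`(z, Λ)` of level `n` with `Λ ⊆ P` (`dep_state`).  A table `Crt` gives for every lattice `Λ` and every representative `R` a
polynomial `f` with `f(R) e_j ∈ Σ R^m Λ` (`crt_mem`).
-/

set_option autoImplicit false
set_option linter.unusedSectionVars false

namespace Cfsg.Agent.H378.Eng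

open CoxeterSystem Cfsg Cfsg.Lie Cfsg.Lie.ChevalleyDatum
open Cfsg.Agent.ChevalleyStructure Cfsg.Agent.ChevalleyStructure.Elts Cfsg.Agent.ChevalleyStructure.CoxeterGeom
  Cfsg.Agent.ChevalleyStructure.CoxeterGeomTypes Cfsg.Agent.ChevalleyStructure.NPerm
open Cfsg.Agent.Tits.Roots Cfsg.Agent.Tits.Core Cfsg.Agent.Nodes Cfsg.Agent.Nodes.Reps

/-- chains of positive roots: lattices, levels with states (root, lattice), transitions -/
structure Chn where
  lats : List (List Vc)
  lev : List (List (ℕ × ℕ))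
  tr : List (List (List (ℕ × List ℕ)))

/-- certificates: polynomials; (polynomial, coefficients) for every lattice and every representative -/
structure Crt where
  fs : List Vc
  ct : List (List (ℕ × List ℕ))

/-- decoding of vectors: digits in base 32, shifted by 16 -/
def dec : ℕ → ℕ → Vc
  | 0, _ => []
  | k + 1, n => if n = 0 then [] else (((n % 32 : ℕ) : ℤ) - 16) :: dec k (n / 32)

namespace Dat

variable (T : Dat) (C : Chn) (E : Crt)

/-- positive roots of the table -/
def isPos (v : Vc) : Bool := T.rts.any fun a => veq v a.1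

def chkP : Bool :=
  (T.rts.all fun a => ((a.1.all fun x => decide (0 ≤ x)) && decide (a.1.length ≤ T.l)) && (dot a.2 a.1 == 2)) &&
  T.rts.all fun a => T.rts.all fun b =>
    decide (dot a.2 b.1 ≤ 0) || veq a.1 b.1 || T.isPos (vadd a.1 (vsm (-1) b.1)) ||
      T.isPos (vadd b.1 (vsm (-1) a.1))

/-- the check of the transition from state `s` of level `n` by the root `r` -/
def chkTr (n s r : ℕ) : Bool :=
  let st := (C.lev.getD n []).getD s (0, 0)
  if T.isPos (vadd (T.gam st.1) (T.gam r)) then
    let q := ((C.tr.getD n []).getD s []).getD r (0, [])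
    let tg := (C.lev.getD (n + 1) []).getD q.1 (0, 0)
    let gens := T.gam r :: C.lats.getD st.2 []
    decide (q.1 < (C.lev.getD (n + 1) []).length) && veq (T.gam tg.1) (vadd (T.gam st.1) (T.gam r)) &&
      (C.lats.getD tg.2 []).length == q.2.length &&
      (List.zipWith (fun v c => veq (lc (dec 12 c) gens) v) (C.lats.getD tg.2 []) q.2).all id
  else true

def chkCh : Bool :=
  ((List.range T.rts.length).all fun r => (C.lev.getD 0 []).any fun s =>
    veq (T.gam s.1) (T.gam r) && (C.lats.getD s.2 []).all fun v => veq v (T.gam r)) &&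
  (List.range C.lev.length).all fun n => (List.range (C.lev.getD n []).length).all fun s =>
    (List.range T.rts.length).all fun r => T.chkTr C n s r

end Dat

/-- `f(M) x` -/
def ev (M : List Vc) : Vc → Vc → Vc
  | [], _ => []
  | a :: f, x => vadd (vsm a x) (lc (ev M f x) M)

/-- `L, M L, …` -/
def orb (M : List Vc) : ℕ → List Vc → List Vc
  | 0, _ => []
  | m + 1, L => L ++ orb M m (L.map fun v => lc v M)

/-- the check of one certificate -/
def chkC1 (l : ℕ) (M : List Vc) (L : List Vc) (f : Vc) (c : List ℕ) : Bool :=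
  (List.range l).all fun j => veq (lc (dec 36 (c.getD j 0)) (orb M l L)) (ev M f (bv j))

/-- all certificates of the representative `i` with matrix `M` -/
def chkCi (l : ℕ) (C : Chn) (E : Crt) (M : List Vc) (i : ℕ) : Bool :=
  (List.range C.lats.length).all fun L =>
    let q := (E.ct.getD L []).getD i (0, [])
    chkC1 l M (C.lats.getD L []) (E.fs.getD q.1 []) q.2

/-- the polynomials of the states of a level are in the list `al` -/
def chkLv (T : Dat) (C : Chn) (E : Crt) (n : ℕ) (al : List ℕ) : Bool :=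
  (C.lev.getD n []).all fun s => decide (s.2 < C.lats.length) &&
    (List.range T.reps.length).all fun i => al.contains ((E.ct.getD s.2 []).getD i (0, [])).1

theorem nz_of_getD : ∀ (a : Vc) (_ : ∀ i, a.getD i 0 = 0), nz a = true
  | [], _ => rfl
  | x :: a, h => by
    have h0 := h 0
    simp only [List.getD_cons_zero] at h0
    have h1 := nz_of_getD a fun i => by simpa using h (i + 1)
    simp [nz, h0, h1]

theorem veq_of_getD : ∀ (a b : Vc) (_ : ∀ i, a.getD i 0 = b.getD i 0), veq a b = true
  | [], b, h => by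
    simp only [veq]
    exact nz_of_getD b fun i => by simpa using (h i).symm
  | x :: a, [], h => by
    simp only [veq]
    exact nz_of_getD _ fun i => by simpa using h i
  | x :: a, y :: b, h => by
    have h0 := h 0
    simp only [List.getD_cons_zero] at h0
    have h1 := veq_of_getD a b fun i => by simpa using h (i + 1)
    simp [veq, h0, h1]

theorem veq_of_toF {l : ℕ} {a b : Vc} (ha : a.length ≤ l) (hb : b.length ≤ l) (h : toF l a = toF l b) :
    veq a b = true := by
  refine veq_of_getD a b fun i => ?_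
  by_cases hi : i < l
  · exact congrFun h ⟨i, hi⟩
  · rw [List.getD_eq_default _ _ (by omega), List.getD_eq_default _ _ (by omega)]

theorem vadd_length {l : ℕ} : ∀ (a b : Vc) (_ : a.length ≤ l) (_ : b.length ≤ l), (vadd a b).length ≤ l := by
  have key : ∀ a b : Vc, (vadd a b).length = max a.length b.length := by
    intro a
    induction a with
    | nil => intro b; cases b <;> simp [vadd]
    | cons x a ih =>
      intro b
      cases b with
      | nil => simp [vadd]
      | cons y b => simp only [vadd, List.length_cons, ih]; omega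
  intro a b ha hb
  rw [key]
  exact max_le ha hb

section Sem

variable {l : ℕ} {M : CoxeterMatrix (Fin l)} {W : Type*} [Group W] (cs : CoxeterSystem M W) {A : Fin l → Fin l → ℤ}
  (h : IsCartan M A)

variable {T : Dat} (hT : T.l = l) (hA : RowOK A T) (hR : T.chkR = true)

theorem mem_rts_of_lt {r : ℕ} (hr : r < T.rts.length) : (T.gam r, T.cor r) ∈ T.rts := by
  unfold Dat.gam Dat.cor
  rw [List.getD_eq_getElem _ _ hr]
  exact List.getElem_mem hr

theorem exists_lt_of_mem {a : Vc × Vc} (ha : a ∈ T.rts) : ∃ r < T.rts.length, T.gam r = a.1 ∧ T.cor r = a.2 := by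
  obtain ⟨r, hr, e⟩ := List.getElem_of_mem ha
  refine ⟨r, hr, ?_, ?_⟩
  · unfold Dat.gam; rw [List.getD_eq_getElem _ _ hr, e]
  · unfold Dat.cor; rw [List.getD_eq_getElem _ _ hr, e]

theorem eqs_toF {l : ℕ} {a b : Vc × Vc} (he : Dat.eqs a b = true) : toF l a.1 = toF l b.1 ∨ toF l a.1 = -toF l b.1 := by
  unfold Dat.eqs at he
  rw [Bool.or_eq_true, Bool.and_eq_true, Bool.and_eq_true] at he
  rcases he with ⟨h1, -⟩ | ⟨h1, -⟩
  · exact Or.inl (toF_veq h1)
  · exact Or.inr (by rw [toF_veq h1, toF_vsm, neg_one_smul])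

include hT hA hR

/-- the roots of the table are roots -/
theorem root_gam : ∀ r : ℕ, r < T.rts.length → IsRoot cs h (toF l (T.gam r)) := by
  subst hT
  have hR' := hR
  unfold Dat.chkR at hR'
  simp only [Bool.and_eq_true, List.all_eq_true] at hR'
  intro r
  induction r using Nat.strong_induction_on with
  | _ r ih =>
    intro hr
    have h1 := hR'.2 r (List.mem_range.2 hr)
    obtain ⟨h2, h3⟩ := h1
    have hk : (T.par.getD r (0, 0)).1 < T.l := by simpa using h2
    set k : Fin T.l := ⟨(T.par.getD r (0, 0)).1, hk⟩ with hkd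
    by_cases hq : (T.par.getD r (0, 0)).2 < r
    · rw [if_pos hq] at h3
      have h4 := ih _ hq (hq.trans hr)
      have h5 : IsRoot cs h (toF T.l (rfx (bv k) (T.row k) (T.gam (T.par.getD r (0, 0)).2))) := by
        rw [toF_rfx (row_length hR k), toF_bv, dotF_row (hA k)]
        have h6 := h4.act (cs.simple k)
        rw [rep_simple_eq] at h6
        exact h6
      have h6 := eqs_toF (l := T.l) h3
      rcases h6 with h6 | h6
      · exact h6 ▸ h5
      · have h7 := h5.neg
        have h8 : toF T.l (T.gam r) = -toF T.l (rfx (bv k) (T.row k) (T.gam (T.par.getD r (0, 0)).2)) := by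
          have h9 : toF T.l (rfx (bv k) (T.row k) (T.gam (T.par.getD r (0, 0)).2)) = -toF T.l (T.gam r) := h6
          rw [h9, neg_neg]
        rw [h8]
        exact h7
    · rw [if_neg hq, Bool.and_eq_true] at h3
      rw [toF_veq h3.1]
      have h5 := toF_bv k
      have h6 : toF T.l (bv (T.par.getD r (0, 0)).1) = sr k := h5
      rw [h6]
      exact isRoot_sr cs h k

/-- every root is in the table up to sign -/
theorem exists_gam' {a : Fin l → ℤ} (ha : IsRoot cs h a) :
    ∃ b ∈ T.rts, a = toF l b.1 ∨ a = -toF l b.1 := by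
  subst hT
  have hR' := hR
  unfold Dat.chkR at hR'
  simp only [Bool.and_eq_true, List.all_eq_true] at hR'
  obtain ⟨w, i, rfl⟩ := ha
  obtain ⟨ω, rfl⟩ := cs.wordProd_surjective w
  induction ω with
  | nil =>
    have h1 := hR'.1.1.2 i (List.mem_range.2 i.2)
    rw [List.any_eq_true] at h1
    obtain ⟨a, ha, h2⟩ := h1
    rw [Bool.and_eq_true] at h2
    refine ⟨a, ha, Or.inl ?_⟩
    rw [wordProd_nil, map_one, Module.End.one_apply, toF_veq h2.1, toF_bv]
    rfl
  | cons k ω ih =>
    obtain ⟨a, ha, h1⟩ := ih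
    have h2 := hR'.1.2 a ha k (List.mem_range.2 k.2)
    rw [List.any_eq_true] at h2
    obtain ⟨b, hb, h3⟩ := h2
    refine ⟨b, hb, ?_⟩
    have h4 : rep cs h (cs.simple k) (toF T.l a.1) = toF T.l (T.cjs k a).1 := by
      have h5 : (T.cjs k a).1 = rfx (bv k) (T.row k) a.1 := rfl
      rw [h5, toF_rfx (row_length hR k), rep_simple_eq, dotF_row (hA k), toF_bv]
      rfl
    rw [wordProd_cons, rep_mul_apply]
    rcases h1 with h1 | h1
    · rw [h1, h4]
      exact eqs_toF h3
    · rw [h1, map_neg, h4]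
      rcases eqs_toF (l := T.l) h3 with h5 | h5
      · exact Or.inr (by rw [h5])
      · exact Or.inl (by rw [h5, neg_neg])

variable (hP : T.chkP = true)
include hP

omit hT hA hR in
theorem gam_nonneg {a : Vc × Vc} (ha : a ∈ T.rts) : 0 ≤ toF l a.1 := by
  unfold Dat.chkP at hP
  simp only [Bool.and_eq_true, List.all_eq_true] at hP
  intro i
  unfold toF
  by_cases hi : (i : ℕ) < a.1.length
  · rw [List.getD_eq_getElem _ _ hi]
    have h1 := (hP.1 a ha).1.1 _ (List.getElem_mem hi)
    simpa using h1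
  · rw [List.getD_eq_default _ _ (not_lt.1 hi)]
    simp

omit hT hA hR in
theorem gam_length (r : ℕ) : (T.gam r).length ≤ T.l := by
  unfold Dat.chkP at hP
  simp only [Bool.and_eq_true, List.all_eq_true] at hP
  unfold Dat.gam
  by_cases hk : r < T.rts.length
  · rw [List.getD_eq_getElem _ _ hk]
    simpa using (hP.1 _ (List.getElem_mem hk)).1.2
  · rw [List.getD_eq_default _ _ (not_lt.1 hk)]
    simp

/-- the positive roots are in the table -/
theorem exists_gam {a : Fin l → ℤ} (ha : IsRoot cs h a) (h0 : 0 ≤ a) : ∃ r < T.rts.length, toF l (T.gam r) = a := by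
  obtain ⟨b, hb, h1⟩ := exists_gam' cs h hT hA hR ha
  obtain ⟨r, hr, e1, -⟩ := exists_lt_of_mem hb
  refine ⟨r, hr, ?_⟩
  rw [e1]
  rcases h1 with h1 | h1
  · exact h1.symm
  · exfalso
    refine ha.not_pos_neg h0 ?_
    rw [h1]
    exact neg_nonpos.2 (gam_nonneg hP hb)

/-- `a` is a positive root in `P` -/
def PS (P : AddSubgroup (Fin l → ℤ)) : Set (Fin l → ℤ) := {a | IsRoot cs h a ∧ 0 ≤ a ∧ a ∈ P}

omit hT hA hR hP in
theorem sum_nonneg_list {L : List (Fin l → ℤ)} (hL : ∀ a ∈ L, 0 ≤ a) : 0 ≤ L.sum := List.sum_nonneg hL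

/-- one step of a chain -/
theorem dep_step {P : AddSubgroup (Fin l → ℤ)} {n : ℕ} {z : Fin l → ℤ} (hz : z ∈ Expo.dep (PS cs h P) (n + 2)) :
    ∃ g ∈ PS cs h P, z - g ∈ Expo.dep (PS cs h P) (n + 1) := by
  obtain ⟨hzS, L, hL, h1, h2⟩ := hz
  obtain ⟨r, hr, er⟩ := exists_gam cs h hT hA hR hP hzS.1 hzS.2.1
  have hP' := hP
  unfold Dat.chkP at hP'
  simp only [Bool.and_eq_true, List.all_eq_true] at hP'
  have hmem := mem_rts_of_lt hr
  have hcl := cor_length' hR r
  rw [hT] at hcl
  have hd2 : dotF l (T.cor r) z = 2 := by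
    rw [← er, dotF_toF hcl]
    simpa using (hP'.1 _ hmem).2
  obtain ⟨g, hgL, hg⟩ : ∃ g ∈ L, 0 < dotF l (T.cor r) g := by
    by_contra hcon
    push Not at hcon
    have h3 : dotF l (T.cor r) L.sum ≤ 0 := by
      have h4 : ∀ L' : List (Fin l → ℤ), (∀ g ∈ L', dotF l (T.cor r) g ≤ 0) → dotF l (T.cor r) L'.sum ≤ 0 := by
        intro L'
        induction L' with
        | nil => intro _; rw [List.sum_nil, map_zero]
        | cons b L' ih =>
          intro hb
          rw [List.sum_cons, map_add]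
          have h5 := hb b List.mem_cons_self
          have h6 := ih fun g hg => hb g (List.mem_cons_of_mem _ hg)
          omega
      exact h4 L hcon
    rw [h2, hd2] at h3
    omega
  have hgS := h1 g hgL
  have e1 : g + (L.erase g).sum = z := by rw [List.sum_erase hgL, h2]
  have e2 : (L.erase g).sum = z - g := by rw [← e1]; abel
  have hlen : n + 1 ≤ (L.erase g).length := by rw [List.length_erase_of_mem hgL]; omega
  have hall : ∀ a ∈ L.erase g, a ∈ PS cs h P := fun a ha => h1 a (List.mem_of_mem_erase ha)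
  have hpos : 0 ≤ z - g := by rw [← e2]; exact sum_nonneg_list fun a ha => (hall a ha).2.1
  have hne : z - g ≠ 0 := by
    intro h0
    rw [h0] at e2
    obtain ⟨b, L', e3⟩ : ∃ b L', L.erase g = b :: L' := by
      rcases e4 : L.erase g with _ | ⟨b, L'⟩
      · rw [e4] at hlen; simp at hlen
      · exact ⟨b, L', rfl⟩
    rw [e3, List.sum_cons] at e2
    have hb := hall b (e3 ▸ List.mem_cons_self)
    have hL' : 0 ≤ L'.sum := sum_nonneg_list fun a ha => (hall a (e3 ▸ List.mem_cons_of_mem _ ha)).2.1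
    refine hb.1.not_pos_neg hb.2.1 ?_
    rw [eq_neg_of_add_eq_zero_left e2]
    exact neg_nonpos.2 hL'
  obtain ⟨r', hr', er'⟩ := exists_gam cs h hT hA hR hP hgS.1 hgS.2.1
  have h5 := hP'.2 _ hmem _ (mem_rts_of_lt hr')
  simp only [Bool.or_eq_true, decide_eq_true_eq] at h5
  have h6 : ∀ (u : Vc) (x : Fin l → ℤ), toF l u = x → T.isPos u = true → IsRoot cs h x := by
    intro u x hx hu
    unfold Dat.isPos at hu
    rw [List.any_eq_true] at hu
    obtain ⟨b, hb, hv⟩ := hu
    obtain ⟨s, hs, es, -⟩ := exists_lt_of_mem hb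
    rw [← hx, toF_veq hv, ← es]
    exact root_gam cs h hT hA hR s hs
  have hroot : IsRoot cs h (z - g) := by
    rcases h5 with ((h5 | h5) | h5) | h5
    · exfalso
      rw [← dotF_toF hcl, er'] at h5
      omega
    · exfalso
      apply hne
      have h7 := toF_veq (l := l) h5
      have h8 : toF l (T.gam r) = toF l (T.gam r') := h7
      rw [er, er'] at h8
      rw [h8, sub_self]
    · refine h6 _ _ ?_ h5
      rw [toF_vadd, toF_vsm, neg_one_smul, er, er', sub_eq_add_neg]
    · have h7 : IsRoot cs h (g - z) := by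
        refine h6 _ _ ?_ h5
        rw [toF_vadd, toF_vsm, neg_one_smul, er, er', sub_eq_add_neg]
      have h8 := h7.neg
      rwa [neg_sub] at h8
  exact ⟨g, hgS, ⟨hroot, hpos, P.sub_mem hzS.2.2 hgS.2.2⟩, L.erase g, hlen, hall, e2⟩

variable {C : Chn} (hC : T.chkCh C = true)
include hC

/-- **The states.** -/
theorem dep_state {P : AddSubgroup (Fin l → ℤ)} : ∀ (n : ℕ) {z : Fin l → ℤ} (_ : z ∈ Expo.dep (PS cs h P) (n + 1)),
    ∃ s ∈ C.lev.getD n [], toF l (T.gam s.1) = z ∧ ∀ v ∈ C.lats.getD s.2 [], toF l v ∈ P := by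
  have hC' := hC
  unfold Dat.chkCh at hC'
  simp only [Bool.and_eq_true, List.all_eq_true] at hC'
  intro n
  induction n with
  | zero =>
    intro z hz
    obtain ⟨r, hr, er⟩ := exists_gam cs h hT hA hR hP hz.1.1 hz.1.2.1
    have h1 := hC'.1 r (List.mem_range.2 hr)
    rw [List.any_eq_true] at h1
    obtain ⟨s, hs, h2⟩ := h1
    rw [Bool.and_eq_true, List.all_eq_true] at h2
    refine ⟨s, hs, ?_, ?_⟩
    · rw [toF_veq h2.1, er]
    · intro v hv
      rw [toF_veq (h2.2 v hv), er]
      exact hz.1.2.2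
  | succ n ih =>
    intro z hz
    obtain ⟨g, hg, h1⟩ := dep_step cs h hT hA hR hP hz
    obtain ⟨s, hs, es, hsP⟩ := ih h1
    obtain ⟨r, hr, er⟩ := exists_gam cs h hT hA hR hP hg.1 hg.2.1
    obtain ⟨rz, hrz, erz⟩ := exists_gam cs h hT hA hR hP hz.1.1 hz.1.2.1
    obtain ⟨i, hi, ei⟩ := List.getElem_of_mem hs
    have hn : n < C.lev.length := by
      by_contra hcon
      rw [List.getD_eq_default _ _ (not_lt.1 hcon)] at hi
      simp at hi
    have h2 := hC'.2 n (List.mem_range.2 hn) i (List.mem_range.2 hi) r (List.mem_range.2 hr)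
    unfold Dat.chkTr at h2
    have hst : (C.lev.getD n []).getD i (0, 0) = s := by rw [List.getD_eq_getElem _ _ hi, ei]
    have hsum : toF l (vadd (T.gam s.1) (T.gam r)) = z := by rw [toF_vadd, es, er]; abel
    have hpos : T.isPos (vadd (T.gam s.1) (T.gam r)) = true := by
      unfold Dat.isPos
      rw [List.any_eq_true]
      refine ⟨_, mem_rts_of_lt hrz, ?_⟩
      refine veq_of_toF (l := l) (vadd_length _ _ (hT ▸ gam_length hP _) (hT ▸ gam_length hP _))
        (hT ▸ gam_length hP _) ?_
      rw [hsum]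
      exact erz.symm
    simp only [hst, hpos, if_true] at h2
    set q := ((C.tr.getD n []).getD i []).getD r (0, []) with hq
    simp only [Bool.and_eq_true, decide_eq_true_eq, beq_iff_eq, List.all_eq_true] at h2
    obtain ⟨⟨⟨h3, h4⟩, h5⟩, h6⟩ := h2
    have htg : (C.lev.getD (n + 1) []).getD q.1 (0, 0) ∈ C.lev.getD (n + 1) [] := by
      rw [List.getD_eq_getElem _ _ h3]
      exact List.getElem_mem h3
    refine ⟨_, htg, ?_, ?_⟩
    · rw [toF_veq h4, hsum]
    · intro v hv
      obtain ⟨j, hj, ej⟩ := List.getElem_of_mem hv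
      have h7 := h6 (veq (lc (dec 12 (q.2[j]'(h5 ▸ hj))) (T.gam r :: C.lats.getD s.2 [])) v) (by
        rw [List.mem_iff_getElem]
        refine ⟨j, by rw [List.length_zipWith, h5, min_self]; exact h5 ▸ hj, ?_⟩
        rw [List.getElem_zipWith, ej])
      rw [← toF_veq (by simpa using h7), toF_lc]
      refine lcF_mem P _ _ ?_
      intro w hw
      rw [List.mem_map] at hw
      obtain ⟨w', hw', rfl⟩ := hw
      rcases List.mem_cons.1 hw' with h8 | h8
      · rw [h8, er]
        exact hg.2.2
      · exact hsP w' h8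

end Sem

/-! ### certificates -/

section Cert

variable {l : ℕ} {M : List Vc} (hM : M.length ≤ l)
include hM

theorem toF_ev (a : ℤ) (f x : Vc) : toF l (ev M (a :: f) x) = a • toF l x + lin l M (toF l (ev M f x)) := by
  simp only [ev]
  rw [toF_vadd, toF_vsm, lin_toF hM]

theorem orb_mem {P : AddSubgroup (Fin l → ℤ)} (hP : ∀ x ∈ P, lin l M x ∈ P) : ∀ (m : ℕ) (L : List Vc)
    (_ : ∀ v ∈ L, toF l v ∈ P), ∀ v ∈ orb M m L, toF l v ∈ P
  | 0, L, _ => by simp [orb]
  | m + 1, L, hL => by
    intro v hv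
    simp only [orb, List.mem_append] at hv
    rcases hv with hv | hv
    · exact hL v hv
    · refine orb_mem hP m _ (fun w hw => ?_) v hv
      rw [List.mem_map] at hw
      obtain ⟨w', hw', rfl⟩ := hw
      rw [← lin_toF hM]
      exact hP _ (hL w' hw')

theorem crt_mem {P : AddSubgroup (Fin l → ℤ)} (hP : ∀ x ∈ P, lin l M x ∈ P) {L : List Vc}
    (hL : ∀ v ∈ L, toF l v ∈ P) {f : Vc} {c : List ℕ} (hc : chkC1 l M L f c = true) (j : Fin l) :
    toF l (ev M f (bv j)) ∈ P := by
  unfold chkC1 at hc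
  rw [List.all_eq_true] at hc
  rw [← toF_veq (hc j (List.mem_range.2 j.2)), toF_lc]
  refine lcF_mem P _ _ ?_
  intro w hw
  rw [List.mem_map] at hw
  obtain ⟨w', hw', rfl⟩ := hw
  exact orb_mem hM hP l L hL w' hw'

/-- `f(q)` -/
def fq : Vc → ℤ → ℤ
  | [], _ => 0
  | a :: f, q => a + q * fq f q

open Cfsg.Agent.H129.TorusChar in
theorem ev_char {k : Type*} [Field k] {φ : (Fin l → ℤ) → k} (hφ : IsMC φ) {q : ℕ}
    (hq : ∀ x, φ (lin l M x) = φ x ^ q) (x : Vc) : ∀ f : Vc, φ (toF l (ev M f x)) = φ (toF l x) ^ fq f q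
  | [] => by simp only [ev, fq]; rw [toF_nil, hφ.zero, zpow_zero]
  | a :: f => by
    rw [toF_ev hM, hφ.add, hφ.zsmul, hq, ev_char hφ hq x f]
    simp only [fq]
    rw [zpow_add₀ (hφ.ne_zero _), ← zpow_natCast, ← zpow_mul, mul_comm (fq f q)]

end Cert

end Cfsg.Agent.H378.Eng
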