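import Cfsg.Agent.H378.Eng.Lst
import Cfsg.Agent.BpExc.RowsUntw

/-!
# Conjugacy classes of Weyl groups by tables (helper378)

A table `Dat` lists the positive roots with their coroot functionals, representatives of the classes of `W` and, for every
representative `R` and every reflection `t`, a representative `R'` and a word `v` of reflections with `t R v = v R'`.
`exists_conj` : if the table passes the check then every `w : W` is conjugate to one of the representatives.
-/

set_option autoImplicit false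
set_option linter.unusedSectionVars false

namespace Cfsg.Agent.H378.Eng

open CoxeterSystem Cfsg Cfsg.Lie Cfsg.Lie.ChevalleyDatum
open Cfsg.Agent.ChevalleyStructure Cfsg.Agent.ChevalleyStructure.Elts Cfsg.Agent.ChevalleyStructure.CoxeterGeom
  Cfsg.Agent.ChevalleyStructure.CoxeterGeomTypes Cfsg.Agent.ChevalleyStructure.NPerm
open Cfsg.Agent.Tits.Roots Cfsg.Agent.Tits.Core Cfsg.Agent.Nodes Cfsg.Agent.Nodes.Reps

/-- the tables -/
structure Dat where
  l : ℕ
  A : List Vc
  rts : List (Vc × Vc)
  par : List (ℕ × ℕ)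
  reps : List (List Vc)
  cj : List (List (ℕ × List ℕ))

namespace Dat

variable (T : Dat)

def gam (r : ℕ) : Vc := (T.rts.getD r ([], [])).1
def cor (r : ℕ) : Vc := (T.rts.getD r ([], [])).2
def row (k : ℕ) : Vc := T.A.getD k []
def R (i : ℕ) : List Vc := T.reps.getD i []

/-- the product of the reflections of a word -/
def wd (u : List ℕ) (x : Vc) : Vc := u.foldr (fun r y => rfx (T.gam r) (T.cor r) y) x

/-- equality of root and functional up to a common sign -/
def eqs (a b : Vc × Vc) : Bool :=
  (veq a.1 b.1 && veq a.2 b.2) || (veq a.1 (vsm (-1) b.1) && veq a.2 (vsm (-1) b.2))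

/-- the conjugate of a reflection by a simple reflection -/
def cjs (k : ℕ) (a : Vc × Vc) : Vc × Vc := (rfx (bv k) (T.row k) a.1, vadd a.2 (vsm (-(a.2.getD k 0)) (T.row k)))

/-- the check of the roots -/
def chkR : Bool :=
  (T.A.all fun a => a.length ≤ T.l) && (T.rts.all fun a => a.2.length ≤ T.l) &&
  ((List.range T.l).all fun k => T.rts.any fun a => veq a.1 (bv k) && veq a.2 (T.row k)) &&
  (T.rts.all fun a => (List.range T.l).all fun k => T.rts.any fun b => eqs (T.cjs k a) b) &&
  ((List.range T.rts.length).all fun r =>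
    let q := T.par.getD r (0, 0)
    (q.1 < T.l) && if q.2 < r then (eqs (T.cjs q.1 (T.gam q.2, T.cor q.2)) (T.gam r, T.cor r))
      else (veq (T.gam r) (bv q.1) && veq (T.cor r) (T.row q.1)))

/-- the check of one conjugacy -/
def chk1 (i r : ℕ) : Bool :=
  let q := (T.cj.getD i []).getD r (0, [])
  (q.1 < T.reps.length) && (q.2.all fun s => s < T.rts.length) && (List.range T.l).all fun k =>
    veq (rfx (T.gam r) (T.cor r) (lc (T.wd q.2 (bv k)) (T.R i))) (T.wd q.2 (lc (bv k) (T.R q.1)))

def chkC : Bool :=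
  (T.reps.all fun M => M.length ≤ T.l) &&
  ((List.range T.l).all fun k => veq (lc (bv k) (T.R 0)) (bv k)) && (0 < T.reps.length) &&
  (List.range T.reps.length).all fun i => (List.range T.rts.length).all fun r => T.chk1 i r

end Dat

section Sem

variable {l : ℕ} {M : CoxeterMatrix (Fin l)} {W : Type*} [Group W] (cs : CoxeterSystem M W) {A : Fin l → Fin l → ℤ}
  (h : IsCartan M A)

/-- `w` is the reflection with root `γ` and coroot functional `c` -/
def IsR (w : W) (γ c : Vc) : Prop := ∀ x, rep cs h w x = x - dotF l c x • toF l γ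

variable {cs h} in
theorem IsR.eqs {w : W} {a b : Vc × Vc} (hw : IsR cs h w a.1 a.2) (he : Dat.eqs a b = true) : IsR cs h w b.1 b.2 := by
  unfold Dat.eqs at he
  rw [Bool.or_eq_true, Bool.and_eq_true, Bool.and_eq_true] at he
  intro x
  rw [hw x]
  rcases he with ⟨h1, h2⟩ | ⟨h1, h2⟩
  · have h3 : dotF l a.2 x = dotF l b.2 x := by
      rw [dotF_apply, dotF_apply]
      exact Finset.sum_congr rfl fun i _ => by rw [veq_getD _ _ h2]
    rw [h3, toF_veq h1]
  · have h3 : dotF l a.2 x = -dotF l b.2 x := by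
      rw [dotF_apply, dotF_apply, ← Finset.sum_neg_distrib]
      exact Finset.sum_congr rfl fun i _ => by rw [veq_getD _ _ h2, vsm_getD]; ring
    rw [h3, toF_veq h1, toF_vsm, neg_smul, neg_one_smul, smul_neg, neg_neg]

theorem dotF_row {c : Vc} {k : Fin l} (hc : ∀ j : Fin l, A k j = c.getD j 0) (x : Fin l → ℤ) :
    dotF l c x = pairing A k x := by
  rw [dotF_apply, pairing]
  exact Finset.sum_congr rfl fun j _ => by rw [hc]

theorem isR_simple {c : Vc} {k : Fin l} (hc : ∀ j : Fin l, A k j = c.getD j 0) :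
    IsR cs h (cs.simple k) (bv k) c := by
  intro x
  rw [rep_simple_eq, dotF_row hc, toF_bv]
  rfl

variable {cs h} in
theorem IsR.conj_simple {w : W} {γ c d : Vc} (hw : IsR cs h w γ c) {k : Fin l} (hc : ∀ j : Fin l, A k j = d.getD j 0)
    (hd : d.length ≤ l) :
    IsR cs h (cs.simple k * w * cs.simple k) (rfx (bv k) d γ) (vadd c (vsm (-(c.getD k 0)) d)) := by
  intro x
  have h1 : ∀ y, rep cs h (cs.simple k) y = y - dotF l d y • toF l (bv k) := isR_simple cs h hc
  have h2 : dotF l (vadd c (vsm (-(c.getD k 0)) d)) x = dotF l c x - c.getD k 0 * dotF l d x := by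
    rw [dotF_apply, dotF_apply, dotF_apply, Finset.mul_sum, ← Finset.sum_sub_distrib]
    exact Finset.sum_congr rfl fun i _ => by rw [vadd_getD, vsm_getD]; ring
  have h3 : dotF l c (toF l (bv k)) = c.getD k 0 := by
    rw [toF_bv, dotF_apply, Finset.sum_eq_single k]
    · simp
    · intro j _ hj
      rw [Pi.single_eq_of_ne hj, mul_zero]
    · intro hk; exact absurd (Finset.mem_univ k) hk
  have h4 : dotF l d (toF l (bv k)) = 2 := by
    have e : dotF l d (toF l (bv k)) = A k k := by
      rw [toF_bv, dotF_apply, Finset.sum_eq_single k]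
      · rw [Pi.single_eq_same, mul_one, hc]
      · intro j _ hj
        rw [Pi.single_eq_of_ne hj, mul_zero]
      · intro hk; exact absurd (Finset.mem_univ k) hk
    rw [e, h.diag]
  have h5 : dotF l c (x - dotF l d x • toF l (bv k)) = dotF l c x - dotF l d x * c.getD k 0 := by
    rw [map_sub, map_zsmul, smul_eq_mul, h3]
  rw [rep_mul_apply, rep_mul_apply, hw, h1 x, h5, map_sub, map_sub, map_zsmul, map_zsmul, h1 x, h1 (toF l (bv k)), h4,
    h1 (toF l γ), h2, toF_rfx hd]
  funext i
  simp only [Pi.sub_apply, Pi.smul_apply, smul_eq_mul]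
  ring

variable (A) in
/-- the semantics of the rows of the Cartan matrix -/
def RowOK (T : Dat) : Prop := ∀ i j : Fin l, A i j = (T.row i).getD j 0

variable {T : Dat} (hT : T.l = l) (hA : RowOK A T) (hR : T.chkR = true)

include hR in
theorem chkR_row {a : Vc} (ha : a ∈ T.A) : a.length ≤ T.l := by
  unfold Dat.chkR at hR
  simp only [Bool.and_eq_true, List.all_eq_true] at hR
  simpa using hR.1.1.1.1 a ha

theorem row_length {T : Dat} (hR : T.chkR = true) (k : ℕ) : (T.row k).length ≤ T.l := by
  unfold Dat.row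
  by_cases hk : k < T.A.length
  · rw [List.getD_eq_getElem _ _ hk]
    exact chkR_row hR (List.getElem_mem hk)
  · rw [List.getD_eq_default _ _ (not_lt.1 hk)]
    simp

theorem cor_length {T : Dat} (hR : T.chkR = true) {a : Vc × Vc} (ha : a ∈ T.rts) : a.2.length ≤ T.l := by
  unfold Dat.chkR at hR
  simp only [Bool.and_eq_true, List.all_eq_true] at hR
  simpa using hR.1.1.1.2 a ha

theorem cor_length' {T : Dat} (hR : T.chkR = true) (r : ℕ) : (T.cor r).length ≤ T.l := by
  unfold Dat.cor
  by_cases hk : r < T.rts.length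
  · rw [List.getD_eq_getElem _ _ hk]
    exact cor_length hR (List.getElem_mem hk)
  · rw [List.getD_eq_default _ _ (not_lt.1 hk)]
    simp

include hT hA hR

/-- every reflection is in the table -/
theorem exists_refl (v : W) (k : Fin l) : ∃ a ∈ T.rts, IsR cs h (v * cs.simple k * v⁻¹) a.1 a.2 := by
  subst hT
  have hR' := hR
  unfold Dat.chkR at hR'
  simp only [Bool.and_eq_true, List.all_eq_true] at hR'
  obtain ⟨ω, rfl⟩ := cs.wordProd_surjective v
  induction ω with
  | nil =>
    have h1 := hR'.1.1.2 k (List.mem_range.2 k.2)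
    rw [List.any_eq_true] at h1
    obtain ⟨a, ha, h2⟩ := h1
    rw [Bool.and_eq_true] at h2
    refine ⟨a, ha, ?_⟩
    rw [wordProd_nil, one_mul, inv_one, mul_one]
    intro x
    rw [isR_simple cs h (hA k) x, toF_veq h2.1, dotF_apply, dotF_apply]
    congr 2
    exact Finset.sum_congr rfl fun i _ => by rw [veq_getD _ _ h2.2]
  | cons i ω ih =>
    obtain ⟨a, ha, h1⟩ := ih
    have h2 := hR'.1.2 a ha i (List.mem_range.2 i.2)
    rw [List.any_eq_true] at h2
    obtain ⟨b, hb, h3⟩ := h2
    refine ⟨b, hb, ?_⟩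
    have h4 := h1.conj_simple (k := i) (hA i) (row_length hR i)
    have h5 : cs.wordProd (i :: ω) * cs.simple k * (cs.wordProd (i :: ω))⁻¹ =
        cs.simple i * (cs.wordProd ω * cs.simple k * (cs.wordProd ω)⁻¹) * cs.simple i := by
      rw [wordProd_cons, mul_inv_rev, cs.inv_simple]; group
    rw [h5]
    exact IsR.eqs (a := T.cjs i a) h4 h3

/-- the entries of the table are reflections -/
theorem exists_elt : ∀ r : ℕ, r < T.rts.length → ∃ w : W, IsR cs h w (T.gam r) (T.cor r) := by
  subst hT
  have hR' := hR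
  unfold Dat.chkR at hR'
  simp only [Bool.and_eq_true, List.all_eq_true] at hR'
  intro r
  induction r using Nat.strong_induction_on with
  | _ r ih =>
    intro hr
    have h1 := hR'.2 r (List.mem_range.2 hr)
    obtain ⟨h2, h3⟩ := h1
    have hk : (T.par.getD r (0, 0)).1 < T.l := by simpa using h2
    set k : Fin T.l := ⟨(T.par.getD r (0, 0)).1, hk⟩ with hkd
    by_cases hq : (T.par.getD r (0, 0)).2 < r
    · rw [if_pos hq] at h3
      obtain ⟨w, hw⟩ := ih _ hq (hq.trans hr)
      exact ⟨_, IsR.eqs (a := T.cjs k (T.gam (T.par.getD r (0, 0)).2, T.cor (T.par.getD r (0, 0)).2))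
        (hw.conj_simple (k := k) (hA k) (row_length hR k)) h3⟩
    · rw [if_neg hq, Bool.and_eq_true] at h3
      refine ⟨cs.simple k, fun x => ?_⟩
      rw [isR_simple cs h (hA k) x, ← toF_veq h3.1, dotF_apply, dotF_apply]
      congr 2
      exact Finset.sum_congr rfl fun i _ => by rw [veq_getD _ _ h3.2]

/-- words of reflections -/
theorem exists_word (u : List ℕ) (hu : ∀ r ∈ u, r < T.rts.length) :
    ∃ w : W, ∀ x : Vc, rep cs h w (toF l x) = toF l (T.wd u x) := by
  induction u with
  | nil => exact ⟨1, fun x => by rw [map_one, Module.End.one_apply]; rfl⟩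
  | cons r u ih =>
    obtain ⟨w, hw⟩ := ih fun s hs => hu s (List.mem_cons_of_mem _ hs)
    obtain ⟨w', hw'⟩ := exists_elt cs h hT hA hR r (hu r List.mem_cons_self)
    refine ⟨w' * w, fun x => ?_⟩
    rw [rep_mul_apply, hw, hw']
    show _ = toF l (rfx (T.gam r) (T.cor r) (T.wd u x))
    rw [toF_rfx (hT ▸ cor_length' hR r)]

/-- **Every element is conjugate to a representative.** -/
theorem exists_conj (hC : T.chkC = true) (w : W) : ∃ (v : W) (i : ℕ), i < T.reps.length ∧
    ∀ x, rep cs h v (rep cs h w (rep cs h v⁻¹ x)) = lin l (T.R i) x := by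
  have hR' := hR
  unfold Dat.chkR at hR'
  simp only [Bool.and_eq_true, List.all_eq_true] at hR'
  unfold Dat.chkC at hC
  simp only [Bool.and_eq_true, List.all_eq_true] at hC
  have hlen : ∀ i, (T.R i).length ≤ l := by
    intro i
    unfold Dat.R
    by_cases hi : i < T.reps.length
    · rw [List.getD_eq_getElem _ _ hi, ← hT]
      simpa using hC.1.1.1 _ (List.getElem_mem hi)
    · rw [List.getD_eq_default _ _ (not_lt.1 hi)]
      simp
  obtain ⟨ω, rfl⟩ := cs.wordProd_surjective w
  induction ω with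
  | nil =>
    refine ⟨1, 0, by simpa using hC.1.2, fun x => ?_⟩
    rw [wordProd_nil, inv_one, map_one, Module.End.one_apply, Module.End.one_apply, Module.End.one_apply]
    refine (hom_ext (φ := lin l (T.R 0)) (ψ := AddMonoidHom.id _) (fun i => ?_) x).symm
    rw [← toF_bv, lin_toF (hlen 0), toF_veq (hC.1.1.2 i (List.mem_range.2 (hT ▸ i.2)))]
    rfl
  | cons k ω ih =>
    obtain ⟨v, i, hi, hv⟩ := ih
    -- `v` conjugates the word to `R i`
    obtain ⟨a, ha, hr⟩ := exists_refl cs h hT hA hR v k
    obtain ⟨r, hr', ea⟩ := List.getElem_of_mem ha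
    have hga : T.gam r = a.1 := by unfold Dat.gam; rw [List.getD_eq_getElem _ _ hr', ea]
    have hco : T.cor r = a.2 := by unfold Dat.cor; rw [List.getD_eq_getElem _ _ hr', ea]
    have h1 := hC.2 i (List.mem_range.2 hi) r (List.mem_range.2 hr')
    unfold Dat.chk1 at h1
    simp only [Bool.and_eq_true, List.all_eq_true] at h1
    set q := (T.cj.getD i []).getD r (0, []) with hq
    obtain ⟨u, hu⟩ := exists_word cs h hT hA hR q.2 (fun s hs => by simpa using h1.1.2 s hs)
    have hcomm : ∀ x, rep cs h (v * cs.simple k * v⁻¹) (lin l (T.R i) (rep cs h u x)) =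
        rep cs h u (lin l (T.R q.1) x) := by
      intro x
      refine hom_ext (φ := ((rep cs h (v * cs.simple k * v⁻¹)).toAddMonoidHom.comp (lin l (T.R i))).comp
        (rep cs h u).toAddMonoidHom) (ψ := (rep cs h u).toAddMonoidHom.comp (lin l (T.R q.1))) (fun j => ?_) x
      show rep cs h (v * cs.simple k * v⁻¹) (lin l (T.R i) (rep cs h u (Pi.single j 1))) =
        rep cs h u (lin l (T.R q.1) (Pi.single j 1))
      rw [← toF_bv, hu, lin_toF (hlen i), hr, lin_toF (hlen q.1), hu, ← hga, ← hco,
        ← toF_rfx (hT ▸ cor_length' hR r)]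
      exact toF_veq (h1.2 j (List.mem_range.2 (hT ▸ j.2)))
    refine ⟨u⁻¹ * v, q.1, by simpa using h1.1.1, fun x => ?_⟩
    have h2 : ∀ y, rep cs h (cs.wordProd ω) y = rep cs h v⁻¹ (lin l (T.R i) (rep cs h v y)) := by
      intro y
      rw [← hv, rep_inv_apply, rep_inv_apply]
    rw [wordProd_cons, mul_inv_rev, inv_inv, rep_mul_apply, rep_mul_apply, rep_mul_apply, h2, rep_apply_inv]
    have h3 : rep cs h v (rep cs h (cs.simple k) (rep cs h v⁻¹ (lin l (T.R i) (rep cs h u x)))) =
        rep cs h (v * cs.simple k * v⁻¹) (lin l (T.R i) (rep cs h u x)) := by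
      rw [rep_mul_apply, rep_mul_apply]
    rw [h3, hcomm, rep_inv_apply]

end Sem

end Cfsg.Agent.H378.Eng
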