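import Cfsg.Agent.H378.Eng.Fin2

/-!
# Tables for `E₆`: roots and classes (helper378)

Generated; see `Dat`.
-/

set_option autoImplicit false
set_option maxRecDepth 100000

namespace Cfsg.Agent.H378.E6Dat

open Cfsg.Agent.H378.Eng

/-- positive roots, classes of the Weyl group -/
def dat : Dat where
  l := 6
  A := [[2, 0, -1, 0, 0, 0], [0, 2, 0, -1, 0, 0], [-1, 0, 2, -1, 0, 0], [0, -1, -1, 2, -1, 0], [0, 0, 0, -1, 2, -1],
    [0, 0, 0, 0, -1, 2]]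
  rts := [([1, 0, 0, 0, 0, 0], [2, 0, -1, 0, 0, 0]), ([0, 1, 0, 0, 0, 0], [0, 2, 0, -1, 0, 0]), ([0, 0, 1, 0, 0, 0],
    [-1, 0, 2, -1, 0, 0]), ([0, 0, 0, 1, 0, 0], [0, -1, -1, 2, -1, 0]), ([0, 0, 0, 0, 1, 0], [0, 0, 0, -1, 2, -1]),
    ([0, 0, 0, 0, 0, 1], [0, 0, 0, 0, -1, 2]), ([1, 0, 1, 0, 0, 0], [1, 0, 1, -1, 0, 0]), ([0, 1, 0, 1, 0, 0], [0,
    1, -1, 1, -1, 0]), ([0, 0, 1, 1, 0, 0], [-1, -1, 1, 1, -1, 0]), ([0, 0, 0, 1, 1, 0], [0, -1, -1, 1, 1, -1]),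
    ([0, 0, 0, 0, 1, 1], [0, 0, 0, -1, 1, 1]), ([1, 0, 1, 1, 0, 0], [1, -1, 0, 1, -1, 0]), ([0, 1, 1, 1, 0, 0], [-1,
    1, 1, 0, -1, 0]), ([0, 1, 0, 1, 1, 0], [0, 1, -1, 0, 1, -1]), ([0, 0, 1, 1, 1, 0], [-1, -1, 1, 0, 1, -1]), ([0,
    0, 0, 1, 1, 1], [0, -1, -1, 1, 0, 1]), ([1, 1, 1, 1, 0, 0], [1, 1, 0, 0, -1, 0]), ([1, 0, 1, 1, 1, 0], [1, -1,
    0, 0, 1, -1]), ([0, 1, 1, 1, 1, 0], [-1, 1, 1, -1, 1, -1]), ([0, 1, 0, 1, 1, 1], [0, 1, -1, 0, 0, 1]), ([0, 0,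
    1, 1, 1, 1], [-1, -1, 1, 0, 0, 1]), ([1, 1, 1, 1, 1, 0], [1, 1, 0, -1, 1, -1]), ([1, 0, 1, 1, 1, 1], [1, -1, 0,
    0, 0, 1]), ([0, 1, 1, 2, 1, 0], [-1, 0, 0, 1, 0, -1]), ([0, 1, 1, 1, 1, 1], [-1, 1, 1, -1, 0, 1]), ([1, 1, 1, 2,
    1, 0], [1, 0, -1, 1, 0, -1]), ([1, 1, 1, 1, 1, 1], [1, 1, 0, -1, 0, 1]), ([0, 1, 1, 2, 1, 1], [-1, 0, 0, 1, -1,
    1]), ([1, 1, 2, 2, 1, 0], [0, 0, 1, 0, 0, -1]), ([1, 1, 1, 2, 1, 1], [1, 0, -1, 1, -1, 1]), ([0, 1, 1, 2, 2, 1],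
    [-1, 0, 0, 0, 1, 0]), ([1, 1, 2, 2, 1, 1], [0, 0, 1, 0, -1, 1]), ([1, 1, 1, 2, 2, 1], [1, 0, -1, 0, 1, 0]), ([1,
    1, 2, 2, 2, 1], [0, 0, 1, -1, 1, 0]), ([1, 1, 2, 3, 2, 1], [0, -1, 0, 1, 0, 0]), ([1, 2, 2, 3, 2, 1], [0, 1, 0,
    0, 0, 0])]
  par := [(0, 0), (1, 1), (2, 2), (3, 3), (4, 4), (5, 5), (2, 0), (3, 1), (3, 2), (4, 3), (5, 4), (3, 6), (2, 7),
    (4, 7), (4, 8), (5, 9), (1, 11), (4, 11), (4, 12), (5, 13), (5, 14), (4, 16), (5, 17), (3, 18), (5, 18), (3,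
    21), (5, 21), (5, 23), (2, 25), (5, 25), (4, 27), (5, 28), (4, 29), (4, 31), (3, 33), (1, 34)]
  reps := [[[1, 0, 0, 0, 0, 0], [0, 1, 0, 0, 0, 0], [0, 0, 1, 0, 0, 0], [0, 0, 0, 1, 0, 0], [0, 0, 0, 0, 1, 0], [0,
    0, 0, 0, 0, 1]], [[-1, 0, 0, 0, 0, 0], [0, 1, 0, 0, 0, 0], [1, 0, 1, 0, 0, 0], [0, 0, 0, 1, 0, 0], [0, 0, 0, 0,
    1, 0], [0, 0, 0, 0, 0, 1]], [[-1, 0, 0, 0, 0, 0], [0, -1, 0, 0, 0, 0], [1, 0, 1, 0, 0, 0], [0, 1, 0, 1, 0, 0],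
    [0, 0, 0, 0, 1, 0], [0, 0, 0, 0, 0, 1]], [[-1, 0, -1, 0, 0, 0], [0, 1, 0, 0, 0, 0], [1, 0, 0, 0, 0, 0], [0, 0,
    1, 1, 0, 0], [0, 0, 0, 0, 1, 0], [0, 0, 0, 0, 0, 1]], [[-1, 0, -1, 0, 0, 0], [0, -1, 0, 0, 0, 0], [1, 0, 0, 0,
    0, 0], [0, 1, 1, 1, 0, 0], [0, 0, 0, 0, 1, 0], [0, 0, 0, 0, 0, 1]], [[-1, 0, 0, 0, 0, 0], [0, -1, 0, 0, 0, 0],
    [1, 0, 1, 0, 0, 0], [0, 1, 0, 1, 1, 0], [0, 0, 0, 0, -1, 0], [0, 0, 0, 0, 1, 1]], [[-1, 0, -1, -1, 0, 0], [0,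
    -1, -1, -1, 0, 0], [1, 0, 1, 0, 0, 0], [0, 1, 0, 1, 0, 0], [0, 0, 1, 1, 1, 0], [0, 0, 0, 0, 0, 1]], [[-1, 0, -1,
    -1, 0, 0], [0, -1, 0, -1, 0, 0], [1, 0, 0, 0, 0, 0], [0, 1, 1, 1, 0, 0], [0, 0, 0, 1, 1, 0], [0, 0, 0, 0, 0,
    1]], [[-1, 0, -1, 0, 0, 0], [0, -1, 0, 0, 0, 0], [1, 0, 0, 0, 0, 0], [0, 1, 1, 1, 1, 0], [0, 0, 0, 0, -1, 0],
    [0, 0, 0, 0, 1, 1]], [[-1, -1, -2, -2, -1, 0], [0, -1, 0, 0, 0, 0], [1, 1, 1, 2, 1, 0], [0, 0, 0, -1, -1, 0],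
    [0, 0, 0, 0, 1, 0], [0, 1, 1, 2, 1, 1]], [[-1, 0, -1, 0, 0, 0], [-1, -2, -2, -3, -2, -1], [1, 0, 0, 0, 0, 0],
    [0, 1, 1, 1, 0, 0], [0, 0, 0, 0, 1, 0], [0, 0, 0, 0, 0, 1]], [[-1, 0, -1, -1, 0, 0], [0, -1, -1, -1, 0, 0], [1,
    0, 1, 0, 0, 0], [0, 1, 1, 2, 1, 0], [0, 0, -1, -1, -1, 0], [0, 0, 1, 1, 1, 1]], [[-1, 0, 0, 0, 0, 0], [0, -1, 0,
    0, 0, 0], [0, -1, -1, -2, -1, 0], [0, 1, 0, 1, 1, 0], [0, 0, 0, 0, -1, 0], [1, 1, 2, 2, 2, 1]], [[0, 0, 0, 0, 1,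
    0], [-1, -1, -2, -2, -1, 0], [0, 0, 0, -1, -1, 0], [1, 1, 1, 2, 1, 0], [-1, 0, 0, 0, 0, 0], [1, 0, 1, 1, 1, 1]],
    [[-1, 0, -1, -1, -1, 0], [0, -1, 0, -1, -1, 0], [1, 0, 0, 0, 0, 0], [0, 1, 1, 1, 1, 0], [0, 0, 0, 1, 0, 0], [0,
    0, 0, 0, 1, 1]], [[-1, 0, -1, -1, 0, 0], [0, -1, 0, -1, 0, 0], [1, 0, 0, 0, 0, 0], [0, 1, 1, 1, 0, 0], [0, 0, 0,
    1, 1, 1], [0, 0, 0, 0, 0, -1]], [[-1, -1, -1, -2, -1, 0], [0, 0, 0, 0, 1, 0], [1, 0, 0, 0, 0, 0], [0, 1, 1, 1,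
    0, 0], [0, -1, 0, 0, 0, 0], [0, 1, 0, 1, 1, 1]], [[-1, -1, -2, -3, -2, -1], [0, -1, 0, -1, 0, 0], [1, 1, 1, 2,
    2, 1], [0, 1, 1, 1, 0, 0], [0, -1, -1, -1, -1, -1], [0, 0, 0, 0, 0, 1]], [[-1, 0, -1, 0, 0, 0], [0, -1, 0, 0, 0,
    0], [1, 0, 0, 0, 0, 0], [0, 1, 1, 1, 1, 1], [0, 0, 0, 0, -1, -1], [0, 0, 0, 0, 1, 0]], [[-1, -1, -2, -2, -1, 0],
    [0, -1, 0, 0, 0, 0], [1, 1, 1, 2, 1, 0], [0, 0, 0, -1, 0, 0], [0, 0, 0, 0, -1, 0], [0, 1, 1, 2, 2, 1]], [[-1, 0,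
    -1, -1, -1, -1], [0, -1, 0, -1, -1, -1], [1, 0, 0, 0, 0, 0], [0, 1, 1, 1, 1, 1], [0, 0, 0, 1, 0, 0], [0, 0, 0,
    0, 1, 0]], [[-1, -1, -1, -2, -2, -1], [0, 0, 0, 0, 0, 1], [1, 0, 0, 0, 0, 0], [0, 1, 1, 1, 1, 0], [0, 0, 0, 1,
    0, 0], [0, -1, 0, -1, 0, 0]], [[-1, -1, -2, -3, -2, -1], [0, -1, 0, -1, 0, 0], [1, 1, 1, 2, 2, 1], [0, 1, 1, 1,
    0, 0], [0, -1, -1, -1, -1, 0], [0, 0, 0, 0, 0, -1]], [[-1, -1, -2, -3, -2, -1], [0, 0, 0, 0, 1, 0], [1, 0, 1, 1,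
    1, 1], [0, 1, 1, 1, 0, 0], [0, -1, -1, -1, -1, -1], [0, 1, 0, 1, 1, 1]], [[-1, 0, -1, 0, 0, 0], [-1, -2, -2, -3,
    -2, -1], [1, 0, 0, 0, 0, 0], [0, 1, 1, 1, 1, 1], [0, 0, 0, 0, -1, -1], [0, 0, 0, 0, 1, 0]]]
  cj := [[(1, []), (1, [16, 8]), (1, [6]), (1, [11, 2]), (1, [17, 8]), (1, [22, 14]), (1, [2]), (1, [16, 2]), (1,
    [11]), (1, [17, 2]), (1, [22, 8]), (1, [8]), (1, [16]), (1, [21, 2]), (1, [17]), (1, [22, 2]), (1, [12]), (1,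
    [14]), (1, [21]), (1, [26, 2]), (1, [22]), (1, [18]), (1, [20]), (1, [25]), (1, [26]), (1, [23]), (1, [24]), (1,
    [29]), (1, [23, 2]), (1, [27]), (1, [32]), (1, [27, 2]), (1, [30]), (1, [30, 2]), (1, [30, 8]), (1, [30, 12])],
    [(0, []), (2, []), (3, []), (2, [7]), (2, [13, 3]), (2, [19, 9]), (3, [0]), (2, [3]), (3, [3]), (2, [13]), (2,
    [19, 3]), (3, [3, 0]), (3, [7]), (2, [9]), (3, [9]), (2, [19]), (3, [7, 0]), (3, [9, 0]), (3, [13]), (2, [15]),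
    (3, [15]), (3, [13, 0]), (3, [15, 0]), (3, [28, 0]), (3, [19]), (3, [28]), (3, [19, 0]), (3, [31, 0]), (2, [35,
    15]), (3, [31]), (3, [33, 0]), (2, [35, 9]), (3, [33]), (2, [35, 3]), (2, [35]), (2, [34])], [(1, [16, 8]), (1,
    []), (4, []), (4, [16, 8]), (5, []), (5, [10]), (4, [0]), (4, [12, 11]), (6, []), (4, [21, 14]), (5, [5]), (6,
    [0]), (6, [1]), (4, [18, 17]), (6, [4]), (4, [26, 20]), (6, [8]), (6, [4, 0]), (6, [28, 0]), (4, [24, 22]), (6,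
    [10]), (6, [28]), (6, [10, 0]), (4, [28, 0]), (6, [31, 0]), (4, [28]), (6, [31]), (4, [31, 0]), (5, [33, 5]),
    (4, [31]), (4, [33, 0]), (5, [33]), (4, [33]), (5, [31]), (4, [33, 16, 8]), (4, [33, 12, 11])], [(1, [2]), (4,
    []), (1, []), (6, [7]), (4, [28, 13, 3, 0]), (4, [33, 19, 9, 0]), (1, [6]), (6, [3, 1]), (6, [7, 1]), (6, [13,
    4]), (4, [31, 19, 3, 0]), (6, [11, 7]), (6, [3]), (6, [28, 9, 0]), (6, [28, 13, 0]), (6, [10, 7]), (6, [12, 3]),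
    (6, [25, 18, 2]), (6, [4, 3]), (6, [31, 15, 0]), (6, [31, 19, 0]), (6, [18, 4, 3]), (6, [29, 24, 2]), (6, [29,
    24, 14, 2]), (6, [10, 3]), (6, [35, 10, 3]), (6, [24, 10, 3]), (6, [25, 20, 18, 2]), (6, [34, 10, 7]), (6, [35,
    4, 3]), (6, [35, 12, 3]), (6, [34, 13, 4]), (6, [35, 3]), (6, [34, 7]), (4, [35]), (4, [34])], [(2, [2]), (3,
    []), (2, []), (7, []), (8, []), (8, [10]), (2, [6]), (7, [1]), (7, [2, 0]), (7, [4]), (8, [5]), (7, [6, 0]), (7,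
    [3]), (7, [4, 1]), (7, [4, 2, 0]), (7, [10]), (7, [16]), (7, [6, 4, 0]), (7, [4, 3]), (7, [10, 1]), (7, [10, 2,
    0]), (7, [21, 4]), (7, [10, 6, 0]), (9, []), (7, [10, 3]), (9, [25]), (7, [26, 10]), (9, [5]), (9, [23]), (9,
    [29, 5]), (9, [10]), (9, [27, 5]), (9, [32, 10]), (9, [30, 10]), (10, []), (10, [1])], [(2, [32, 27]), (2, [13,
    3]), (8, []), (9, [12, 11, 2]), (2, []), (8, [30, 29, 28]), (8, [0]), (9, [16, 8, 2]), (11, []), (9, [18, 17,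
    2]), (8, [32, 28, 27]), (11, [0]), (11, [1]), (9, [21, 14, 2]), (11, [4]), (8, [26, 20]), (11, [1, 0]), (11, [4,
    0]), (11, [11, 0]), (8, [24, 22]), (9, [34, 13, 5, 3, 2]), (11, [8]), (9, [30, 16, 15, 8, 2]), (8, [28, 0]), (9,
    [35, 15, 13, 3, 2]), (8, [28]), (9, [34, 19, 18, 8, 2]), (9, [31, 10, 2]), (12, []), (9, [33, 27, 5]), (9, [33,
    5, 2]), (8, [30, 29]), (9, [33, 29, 5]), (8, [32, 27]), (8, [28, 26, 20]), (8, [28, 24, 22])], [(3, [12, 3]),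
    (3, [7]), (7, []), (7, [2, 0]), (11, [4]), (9, [34, 19, 9, 2]), (7, [2]), (7, [7]), (2, []), (7, [18, 17, 2]),
    (11, [5, 4]), (3, [11, 7]), (3, [3]), (7, [18, 17]), (11, []), (7, [24, 22, 2]), (2, [8]), (13, []), (13, [17]),
    (7, [24, 22]), (11, [5]), (11, [21, 4]), (13, [5]), (7, [28, 4, 1, 0]), (13, [33]), (7, [21, 8, 4]), (11, [33]),
    (7, [31, 10, 1, 0]), (11, [14]), (7, [24, 22, 7]), (7, [33, 2]), (11, [33, 4]), (7, [33]), (9, [32, 27, 12, 3]),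
    (7, [33, 2, 0]), (7, [33, 7])], [(6, [2]), (6, [3, 1]), (6, []), (4, []), (14, []), (15, []), (4, [12, 3]), (6,
    [7]), (4, [16, 8]), (14, [4]), (14, [5]), (6, [6, 0]), (4, [3]), (16, []), (16, [13]), (14, [5, 4]), (4, [16]),
    (16, [17]), (16, [18, 17]), (16, [5]), (16, [19, 5]), (14, [21]), (16, [22, 5]), (14, [4, 3]), (16, [24, 22,
    5]), (16, [14, 13]), (14, [26, 5]), (14, [5, 4, 3]), (14, [21, 8]), (16, [20, 19, 5]), (17, []), (14, [26, 8,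
    5]), (17, [32]), (17, [32, 2]), (17, [30]), (17, [30, 11])], [(5, [2]), (4, [28, 13, 3, 0]), (5, []), (14, [4]),
    (4, []), (18, []), (5, [6]), (14, [4, 1]), (14, [13, 1]), (14, []), (18, [4]), (14, [11, 1]), (14, [9]), (14,
    [1]), (14, [2, 0]), (15, [10]), (14, [16]), (14, [6, 0]), (14, [9, 3]), (15, [10, 1]), (15, [10, 2, 0]), (14,
    [21, 4]), (15, [10, 6, 0]), (19, []), (15, [10, 3]), (19, [25]), (15, [26, 10]), (15, [25, 20, 18, 2]), (19,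
    [23]), (15, [28, 15, 13, 0]), (15, [35, 23, 17, 2]), (15, [23, 22, 21, 6]), (15, [25, 24, 14, 0]), (15, [28, 19,
    9, 6]), (18, [28, 9, 7, 0]), (18, [28, 13, 3, 0])], [(5, [16, 3, 2]), (6, [29, 24, 14, 2]), (4, [28, 0]), (16,
    [18, 17]), (19, []), (15, [32, 24, 14, 0]), (4, [23]), (16, [18, 17, 0]), (14, [7, 1]), (16, [16, 8, 0]), (15,
    [27, 22, 21, 2]), (14, [12, 3]), (14, [3]), (16, [16, 8]), (14, [28, 3, 0]), (17, [10]), (14, [8, 7, 1]), (14,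
    [17, 7, 1]), (14, [4, 3]), (17, [10, 1]), (17, [10, 7, 1]), (14, [21, 3]), (17, [22, 10, 1]), (4, []), (17, [10,
    3]), (4, [25]), (17, [26, 10]), (15, [32, 20, 18, 0]), (5, [12, 11, 3]), (15, [30, 22, 21, 8]), (15, [29, 24,
    14, 2]), (15, [32, 24, 8, 4]), (15, [29, 24, 14, 0]), (15, [29, 24, 14]), (17, [28, 10, 0]), (17, [28, 10, 1,
    0])], [(4, [32, 11, 7]), (4, [34]), (4, [33, 16, 8]), (17, [32, 2]), (18, [28, 9, 7, 0]), (18, [33, 15, 13, 0]),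
    (4, [30, 12, 3]), (17, [33, 11, 0]), (17, [30, 6]), (17, [29, 4, 2]), (18, [31, 19, 3, 0]), (17, [33, 0]), (17,
    [16, 8, 0]), (17, [31, 17, 4, 0]), (17, [27, 6, 4]), (17, [25, 10, 2]), (17, [35, 16]), (17, [31, 4, 0]), (17,
    [21, 14, 4, 0]), (17, [28, 22, 10, 0]), (17, [23, 10, 6]), (17, [35, 21, 4]), (17, [28, 10, 0]), (17, [22, 10,
    1]), (17, [26, 10, 8, 0]), (17, [28, 10, 2, 0]), (17, [26, 23, 10]), (17, [17, 4, 1]), (17, [23, 10]), (17, [31,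
    4, 2, 0]), (17, [11, 1]), (17, [27, 4]), (17, [33, 2, 0]), (17, [30]), (4, []), (4, [35])], [(6, [32, 27, 0]),
    (6, [13, 3, 1]), (14, [4]), (14, [13, 1]), (6, [4]), (14, [35, 17, 15, 1, 0]), (14, [4, 2]), (16, [13, 1]), (5,
    []), (16, [13]), (14, [32, 23, 7, 5]), (6, [30, 29]), (6, [9, 7]), (14, [13, 4]), (6, []), (14, [31, 10, 8]),
    (6, [14]), (6, [23, 7, 2]), (6, [34, 19, 11]), (14, [24, 22, 4]), (14, [32, 27, 7, 0]), (5, [21]), (16, [32, 27,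
    7, 0]), (14, [28, 1, 0]), (16, [30, 29, 13]), (14, [21, 8, 4]), (14, [32, 27, 6]), (14, [26, 20, 9, 0]), (5,
    [8]), (16, [26, 20, 9, 0]), (16, [24, 22, 13]), (14, [32, 27, 0]), (14, [26, 14, 5]), (14, [32, 27, 6, 0]), (14,
    [28, 26, 20]), (14, [28, 26, 20, 2])], [(5, [23, 2]), (5, [17, 8]), (19, [25]), (19, [11, 2]), (5, [33, 5]),
    (19, [32, 27, 6]), (19, [2]), (19, [16, 2]), (5, [21]), (19, [17, 2]), (19, [32, 23, 5]), (5, [18]), (5, [17]),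
    (19, [21, 2]), (5, [16]), (19, [24, 22, 2]), (5, [14]), (5, [12]), (5, [11]), (19, [26, 20, 2]), (19, [25, 24,
    15]), (5, [8]), (19, [35, 15, 2]), (19, [6]), (19, [35, 23, 15]), (19, [23]), (19, [34, 19, 2]), (19, [31, 10,
    2]), (5, []), (19, [33, 27, 5]), (19, [33, 5, 2]), (19, [32, 27, 2]), (19, [33, 29, 5]), (19, [30, 29, 2]), (19,
    [24, 22, 6]), (19, [26, 20, 6])], [(6, [23, 7, 2]), (6, [13, 6, 3]), (16, [17]), (16, [18, 2, 0]), (6, [25, 11,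
    3]), (16, [35, 15, 14, 1]), (16, [18, 2]), (16, [25, 7]), (6, [4, 0]), (16, [17, 2]), (16, [35, 15, 11, 0]), (6,
    [30, 29, 0]), (6, [35, 15, 1]), (16, [18]), (6, [32, 27, 0]), (16, [24, 22, 2]), (6, [21, 11]), (6, []), (6,
    [17]), (16, [24, 22]), (16, [30, 29, 21, 0]), (6, [34, 19, 1]), (16, [35, 15, 12, 0]), (16, [17, 2, 0]), (16,
    [34, 21, 19, 1]), (16, [25, 18]), (16, [34, 19, 12, 0]), (16, [31, 10, 1, 0]), (6, [23, 9, 2]), (16, [33, 29,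
    5]), (16, [33, 5, 2]), (16, [32, 27, 14, 0]), (16, [33, 5]), (16, [34, 19, 11, 0]), (16, [24, 22, 2, 0]), (16,
    [35, 24, 22])], [(11, [4, 2]), (7, [23, 17, 3, 0]), (11, [4]), (7, [4]), (7, []), (20, []), (9, [12, 3]), (11,
    [9, 1]), (7, [28, 8]), (8, []), (20, [5]), (7, [14, 13, 0]), (9, [3]), (7, [23, 21, 6]), (9, [18, 17, 2]), (20,
    [5, 4]), (8, [16]), (11, [6, 4, 0]), (7, [9, 3]), (21, []), (21, [19]), (7, [21]), (21, [22]), (8, [9]), (21,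
    [24, 22]), (9, [25, 3]), (20, [26]), (21, [26, 23, 8]), (8, [23, 9]), (21, [24, 22, 7]), (20, [22, 19, 0]), (20,
    [26, 8]), (21, [20, 19]), (21, [28, 9, 7, 0]), (20, [28, 9, 7, 0]), (20, [26, 23, 8])], [(9, [34, 24, 14]), (9,
    [30, 26, 17, 0]), (9, [34, 19, 9, 2]), (8, [10]), (20, [5]), (7, []), (8, [27, 12, 3]), (9, [30, 22, 21, 0]),
    (8, [31, 16, 8]), (20, [10]), (20, []), (9, [34, 26, 17, 0]), (8, [15, 3]), (21, [10, 1]), (21, [15, 3, 2, 0]),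
    (20, [10, 4]), (8, [16, 10]), (21, [16, 10, 6, 0]), (21, [33, 18, 10, 1]), (21, [10, 4, 1]), (21, [13, 10, 1]),
    (20, [21]), (21, [22, 10, 1]), (20, [32, 20, 0]), (21, [26, 12, 2]), (21, [15, 8, 4, 0]), (20, [26, 5]), (20,
    [10, 9]), (20, [28, 26, 5]), (21, [31, 16, 3, 1, 0]), (22, []), (20, [31, 21]), (22, [32]), (22, [32, 2]), (22,
    [30]), (22, [30, 11])], [(13, [13, 2]), (11, [13]), (13, [17]), (7, [4, 1]), (11, [9, 1]), (21, [10, 4, 1]), (9,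
    [21, 12, 3]), (7, [23, 21, 6]), (7, [28, 6]), (7, [28, 9, 6]), (21, [5]), (7, [14, 13]), (7, [11, 9, 0]), (7,
    []), (7, [13]), (21, [5, 4]), (7, [16, 4, 1]), (7, [17]), (7, [18, 17]), (21, [10, 1]), (23, []), (7, [23, 6]),
    (21, [28, 15, 13, 0]), (9, [16, 8]), (23, [4, 1]), (13, [17, 7]), (21, [26, 5]), (21, [22, 13, 0]), (9, [21, 7,
    2]), (23, [20]), (21, [10, 7, 1]), (21, [26, 8, 5]), (23, [32]), (21, [28, 6, 5]), (21, [15, 13, 8, 0]), (21,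
    [27, 22, 13, 0])], [(9, [34, 12, 10, 0]), (7, [34, 11]), (7, [33, 2]), (9, [10]), (21, [26, 23, 8]), (22, []),
    (10, [30]), (7, [35, 16, 1]), (10, [33, 0]), (21, [24, 22, 4]), (21, [21, 14, 3, 0]), (7, [30]), (9, [15, 3]),
    (23, []), (21, [27, 6]), (21, [24, 21, 2, 1]), (9, [16, 10]), (21, [33, 29, 6, 0]), (21, [21, 14, 10, 3, 0]),
    (23, [5]), (21, [10, 7, 1]), (20, [34, 12, 9, 0]), (21, [27, 22, 6]), (20, [4, 3]), (21, [23, 6, 3, 1]), (21,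
    [27, 14, 6]), (20, [26, 4, 3]), (20, [22, 19, 0]), (20, [23, 4, 3]), (21, [30, 15, 8, 0]), (7, []), (20, [23,
    15, 6, 0]), (7, [32]), (9, [27, 12, 3]), (9, [34, 16, 10]), (10, [16, 1])], [(8, [33, 27, 25]), (10, [31, 19, 3,
    0]), (8, [30, 29, 28]), (20, [10, 4]), (8, [5]), (8, []), (8, [32, 31, 23]), (20, [7, 2, 0]), (20, [8, 6, 1,
    0]), (20, [5, 4]), (8, [10]), (20, [11, 1]), (20, [12, 6, 0]), (20, [22, 6, 0]), (20, [19, 1]), (20, []), (20,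
    [16]), (20, [24, 2, 1, 0]), (20, [15]), (20, [1]), (20, [2, 0]), (20, [20, 2, 0]), (20, [6, 0]), (22, [15]),
    (20, [2, 1, 0]), (22, [22, 6, 0]), (20, [6, 1, 0]), (22, [10, 9]), (22, [20, 2, 0]), (22, [29, 9, 3]), (22, [9,
    3]), (22, [23, 15]), (22, [32, 15]), (22, [22, 21, 2]), (24, []), (24, [1])], [(12, [2]), (9, [13, 3]), (8, [28,
    0]), (9, [9]), (9, []), (22, [10, 9]), (8, [23]), (9, [13]), (8, [13]), (9, [3]), (22, [15, 3]), (8, [18, 3]),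
    (8, [9]), (9, [7]), (8, [7]), (22, [10]), (8, [14, 7]), (8, [17, 7]), (8, [3]), (22, [10, 1]), (22, [15, 7]),
    (8, [21, 3]), (22, [22, 10, 1]), (8, []), (22, [10, 3]), (8, [25]), (22, [26, 10]), (22, [15]), (12, [6]), (22,
    [28, 15, 0]), (22, [15, 4]), (22, [30, 15, 4]), (22, [32, 10, 9]), (22, [15, 12]), (22, [28, 10, 0]), (22, [15,
    12, 2])], [(14, [33, 27, 14, 0]), (17, [29, 20, 11, 0]), (14, [30, 29, 28, 1]), (14, [10, 4]), (14, [5]), (14,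
    []), (15, [30, 29, 28, 1]), (14, [32, 20, 17, 0]), (14, [31, 8]), (15, [10]), (15, []), (17, [20, 19, 0]), (15,
    [30, 25, 22, 0]), (14, [35, 13, 8]), (17, [31, 16, 2, 0]), (18, []), (18, [16]), (14, [20, 19, 0]), (17, [9,
    3]), (17, [32, 24, 13, 4]), (15, [34, 24, 21, 1]), (15, [21]), (14, [33, 29, 17]), (15, [31, 23, 21]), (14, [9,
    5, 3]), (15, [30, 22, 0]), (14, [26]), (15, [10, 9]), (18, [16, 14]), (17, [29, 9, 3]), (18, [15]), (15, [31,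
    21]), (15, [35, 17, 7]), (15, [27, 10, 9]), (18, [30, 15]), (18, [30, 15, 11])], [(16, [33, 27, 14, 0]), (14,
    [28, 15, 11]), (16, [30, 29, 13, 0]), (16, [10, 1]), (16, [5]), (14, [35, 13, 8]), (15, [34, 24, 13, 3]), (14,
    [29, 24, 7]), (16, [28, 8, 5]), (15, [10, 1]), (14, [32, 20, 17]), (17, [32, 20, 17]), (17, [15, 3, 1]), (17,
    [32, 24, 13, 4]), (17, [31, 6]), (17, [31, 15, 6]), (15, [16, 10, 1]), (14, [20, 19]), (16, [15, 3, 1]), (14,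
    []), (14, [19]), (16, [21, 5]), (14, [22]), (15, [10, 9, 1]), (14, [24, 22]), (17, [31, 14, 6]), (17, [32, 27,
    2, 0]), (17, [24, 22, 4]), (15, [31, 21, 6]), (16, [30, 13, 0]), (15, [33, 29, 12, 9]), (15, [30, 25, 12, 1,
    0]), (16, [33, 29, 17]), (17, [17, 15, 2, 1]), (15, [31, 17, 13, 1]), (15, [30, 9, 7, 0])], [(19, [33, 27, 12]),
    (15, [34, 11]), (15, [33, 2]), (19, [10]), (15, [28, 27, 26]), (17, []), (18, [22, 21, 0]), (15, [35, 16, 1]),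
    (18, [15, 13]), (15, [34, 13, 11]), (15, [31, 23, 21]), (15, [30]), (19, [15]), (17, [19]), (15, [19]), (15,
    [34, 19, 11]), (19, [16, 10]), (15, [32, 17]), (15, [33, 13, 2]), (17, [13]), (15, [13]), (18, [21, 15]), (15,
    [22, 13]), (18, [15]), (15, [33, 19, 2]), (15, [20, 13]), (18, [26, 4, 3]), (18, [4, 3]), (18, [27, 4, 3]), (15,
    [30, 14]), (15, []), (18, [23, 15]), (15, [32]), (19, [27, 12]), (19, [34, 16, 10]), (18, [23, 15, 8])], [(16,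
    [35, 20, 7]), (16, [29, 20]), (16, [31, 10, 8]), (16, [26, 10, 8]), (16, [29, 24, 1]), (17, [13]), (17, [35,
    21]), (16, [35, 21]), (17, [28, 6]), (16, [34, 9, 8]), (16, [31, 8]), (16, [14, 13, 5]), (16, [32, 15, 12]),
    (17, []), (16, [13, 5]), (16, [32, 27, 12]), (16, [26, 8]), (16, [32, 17, 5]), (16, [21, 20, 7]), (17, [19]),
    (16, []), (17, [23, 6]), (16, [22, 13, 5]), (17, [31, 8]), (16, [32, 24]), (16, [19, 14, 5]), (17, [27, 13, 6]),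
    (17, [31, 19, 6]), (17, [21, 19, 8]), (16, [20]), (16, [19, 5]), (17, [27, 21]), (16, [32]), (16, [27, 21]),
    (16, [34, 26, 8]), (17, [26, 8])], [(18, [28, 24, 14, 3]), (18, [34]), (18, [32, 27, 13, 3]), (18, [21, 20]),
    (18, [31, 19, 3, 0]), (18, [28, 9, 7, 0]), (18, [27, 18, 4, 3]), (18, [33, 17, 3]), (18, [32, 13]), (18, [26,
    8]), (18, [33, 15, 13, 0]), (18, [18, 15]), (18, [32, 9, 8]), (18, [35, 13, 8]), (18, [19, 11]), (18, [16, 14]),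
    (18, [30, 14, 11]), (18, [24, 3]), (18, [35, 18, 11]), (18, [28, 15, 11]), (18, [25, 7]), (18, [35, 21, 3]),
    (18, [12, 9]), (18, [22, 13]), (18, [25, 20, 3]), (18, [33, 20]), (18, [23, 22, 8]), (18, [17, 7]), (18, [30,
    15]), (18, [28, 14]), (18, [29, 11]), (18, [23, 9]), (18, [31, 8]), (18, [27, 3]), (18, []), (18, [35])]]

theorem chkR : dat.chkR = true := by decide +kernel

theorem chkP : dat.chkP = true := by decide +kernel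

/-- the check of a few rows of the conjugacies; the rows are split into parts to keep the kernel's memory small -/
def chkP' (a n : ℕ) : Bool :=
  (List.range' a n).all fun i => (List.range dat.rts.length).all fun r => dat.chk1 i r

theorem chkC_0 : chkP' 0 3 = true := by decide +kernel

theorem chkC_3 : chkP' 3 3 = true := by decide +kernel

theorem chkC_6 : chkP' 6 3 = true := by decide +kernel

theorem chkC_9 : chkP' 9 3 = true := by decide +kernel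

theorem chkC_12 : chkP' 12 3 = true := by decide +kernel

theorem chkC_15 : chkP' 15 3 = true := by decide +kernel

theorem chkC_18 : chkP' 18 3 = true := by decide +kernel

theorem chkC_21 : chkP' 21 4 = true := by decide +kernel

theorem chkC_all : ((List.range dat.reps.length).all fun i => (List.range dat.rts.length).all fun r => dat.chk1 i r) =
    true := by
  have e : List.range dat.reps.length = List.range' 0 3 ++ List.range' 3 3 ++ List.range' 6 3 ++ List.range' 9 3 ++ List.range' 12 3 ++ List.range' 15 3 ++ List.range' 18 3 ++ List.range' 21 4 := rfl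
  rw [e]
  simp only [List.all_append, Bool.and_eq_true]
  exact ⟨⟨⟨⟨⟨⟨⟨chkC_0, chkC_3⟩, chkC_6⟩, chkC_9⟩, chkC_12⟩, chkC_15⟩, chkC_18⟩, chkC_21⟩

theorem chkC : dat.chkC = true := by
  unfold Dat.chkC
  rw [chkC_all, Bool.and_true]
  decide +kernel

theorem length_reps : dat.reps.length = 25 := rfl

end Cfsg.Agent.H378.E6Dat
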