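import Cfsg.Agent.H378.Eng.Lev2
import Cfsg.Agent.H378.Eng.E6PC0
import Cfsg.Agent.H378.Eng.E6PC1
import Cfsg.Agent.H378.Eng.E6PC2
import Cfsg.Agent.H378.Eng.E6PC3
import Cfsg.Agent.H378.Eng.E6PC4

/-!
# Tables for `E6`: levels (helper378)

Generated; see `LevOK`, `okL`.
-/

set_option autoImplicit false
set_option maxRecDepth 100000

namespace Cfsg.Agent.H378.E6PL

open Cfsg.Lie Cfsg.Agent.H378.Eng

/-- certificates -/
def ct : List (List Ent) :=
  [E6PC0.ct0, E6PC0.ct1, E6PC0.ct2, E6PC0.ct3, E6PC0.ct4, E6PC1.ct5, E6PC1.ct6, E6PC1.ct7, E6PC1.ct8, E6PC1.ct9,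
    E6PC2.ct10, E6PC2.ct11, E6PC2.ct12, E6PC2.ct13, E6PC2.ct14, E6PC3.ct15, E6PC3.ct16, E6PC3.ct17, E6PC3.ct18,
    E6PC3.ct19, E6PC4.ct20, E6PC4.ct21, E6PC4.ct22, E6PC4.ct23, E6PC4.ct24]

/-- masks of the lattices -/
def am : List ℕ :=
  [8370132, 1433535, 1433535, 1433535, 1433535, 1433535, 1433535, 1433535, 1433535, 1433535, 1433535, 1433535,
    1433535, 1433535, 1433535, 1433535, 1433535, 1433535, 1433535, 1433535, 1433535, 1433535, 1433535, 1433535,
    1433535, 1433535, 1433535, 1433535, 1433535, 1433535, 1433535, 1433535, 1433535, 1433535, 1433535, 1433535,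
    1433535, 103359, 103359, 103359, 103359, 103359, 103359, 103359, 103359, 103359, 103359, 103359, 103359, 103359,
    103359, 103359, 103359, 103359, 103359, 103359, 103359, 103359, 103359, 103359, 103359, 103359, 103359, 103359,
    103359, 103359, 103359, 103359, 103359, 103359, 103359, 103359, 103359, 103359, 103359, 103359, 103359, 103359,
    103359, 103359, 103359, 103359, 103359, 103359, 103359, 103359, 103359, 103359, 103359, 103359, 103359, 103359,
    103359, 103359, 103359, 103359, 103359, 103359, 103359, 103359, 103359, 103359, 103359, 103359, 103359, 103359,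
    103359, 103359, 103359, 103359, 103359, 103359, 103359, 103359, 103359, 103359, 103359, 103359, 103359, 103359,
    103359, 103359, 103359, 103359, 103359, 103359, 103359, 103359, 103359, 103359, 103359, 103359, 103359, 103359,
    103359, 103359, 103359, 103359, 103359, 103359, 103359, 103359, 103359, 103359, 103359, 103359, 103359, 103359,
    103359, 103359, 103359, 103359, 103359, 103359, 103359, 103359, 103359, 669, 669, 669, 669, 669, 669, 669, 669,
    669, 669, 669, 669, 669, 669, 669, 669, 669, 669, 669, 669, 669, 669, 669, 669, 669, 669, 669, 669, 669, 669, 669,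
    669, 669, 669, 669, 669, 669, 669, 669, 669, 669, 669, 669, 669, 669, 669, 669, 669, 669, 669, 669, 669, 669, 669,
    669, 669, 669, 669, 669, 669, 669, 669, 669, 669, 669, 669, 669, 669, 669, 669, 669, 669, 669, 669, 669, 669, 669,
    669, 669, 669, 669, 669, 669, 669, 669, 669, 669, 669, 669, 669, 669, 669, 669, 669, 669, 669, 669, 669, 669, 669,
    669, 669, 669, 669, 669, 669, 669, 669, 669, 669, 669, 669, 669, 669, 669, 669, 669, 669, 669, 669, 669, 669, 669,
    669, 669, 669, 669, 669, 669, 669, 669, 669, 669, 669, 669, 669, 669, 669, 669, 669, 669, 669, 669, 669, 669, 669,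
    669, 669, 669, 669, 669, 669, 669, 669, 669, 669, 669, 669, 669, 669, 669, 669, 669, 669, 669, 669, 669, 669, 669,
    669, 669, 669, 669, 669, 669, 669, 669, 669, 669, 669, 669, 669, 669, 669, 669, 669, 669, 669, 669, 669, 669, 669,
    669, 669, 669, 669, 669, 669, 669, 669, 669, 669, 669, 669, 669, 669, 669, 669, 669, 669, 669, 669, 669, 669, 669,
    669, 669, 669, 669, 669, 669, 669, 669, 669, 669, 669, 669, 669, 669, 669, 669, 669, 669, 669, 669, 669, 669, 669,
    669, 669, 669, 669, 669, 669, 669, 669, 669, 669, 669, 669, 669, 669, 669, 669, 669, 669, 669, 669, 669, 669, 669,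
    669, 669, 669, 669, 669, 669, 669, 669, 669, 157, 157, 157, 157, 157, 157, 157, 157, 157, 157, 157, 157, 157, 157,
    157, 157, 157, 157, 157, 157, 157, 157, 157, 157, 157, 157, 157, 157, 157, 157, 157, 157, 157, 157, 157, 157, 157,
    157, 157, 157, 157, 157, 157, 157, 157, 157, 157, 157, 157, 157, 157, 157, 157, 157, 157, 157, 157, 157, 157, 157,
    157, 157, 157, 157, 157, 157, 157, 157, 157, 157, 157, 157, 157, 157, 157, 157, 157, 157, 157, 157, 157, 157, 157,
    157, 157, 157, 157, 157, 157, 157, 157, 157, 157, 157, 157, 157, 157, 157, 157, 157, 157, 157, 157, 157, 157, 157,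
    157, 157, 157, 157, 157, 157, 157, 157, 157, 157, 157, 157, 157, 157, 157, 157, 157, 157, 157, 157, 157, 157, 157,
    157, 157, 157, 157, 157, 157, 157, 157, 157, 157, 157, 157, 157, 157, 157, 157, 157, 157, 157, 157, 157, 157, 157,
    157, 157, 157, 157, 157, 157, 157, 157, 157, 157, 157, 157, 157, 157, 157, 157, 157, 157, 157, 157, 157, 157, 157,
    157, 157, 157, 157, 157, 157, 157, 157, 157, 157, 157, 157, 157, 157, 157, 157, 157, 157, 157, 157, 157, 157, 157,
    157, 157, 157, 157, 157, 157, 157, 157, 157, 157, 157, 157, 157, 157, 157, 157, 157, 157, 157, 157, 157, 157, 157,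
    157, 157, 157, 157, 157, 157, 157, 157, 157, 157, 157, 157, 157, 157, 157, 157, 157, 157, 157, 157, 157, 157, 157,
    157, 157, 157, 157, 157, 157, 157, 157, 157, 157, 157, 157, 157, 157, 157, 157, 157, 5, 157, 5, 5, 5, 5, 157, 5,
    5, 157, 5, 5, 5, 5, 5, 5, 157, 5, 157, 5, 5, 5, 5, 5, 157, 5, 5, 157, 5, 5, 5, 157, 157, 5, 157, 5, 157, 157, 5,
    157, 157, 157, 157, 157, 157, 157, 157, 157, 157, 157, 157, 157, 157, 157, 157, 157, 157, 157, 157, 157, 157, 157,
    157, 1]

theorem am_len : am.length = 752 := by decide +kernel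

theorem ok_all : ((List.range 25).all fun i => okA am (ct.getD i [])) = true := by decide +kernel

theorem levOK : LevOK 25 752 am ct := ⟨am_len, ok_all⟩

theorem lv1 : okL 752 am 1433535 (E6Chn.chn.lev.getD 0 []) = true := by decide +kernel

theorem lv2 : okL 752 am 103359 (E6Chn.chn.lev.getD 1 []) = true := by decide +kernel

theorem lv3 : okL 752 am 669 (E6Chn.chn.lev.getD 2 []) = true := by decide +kernel

theorem lv4 : okL 752 am 157 (E6Chn.chn.lev.getD 3 []) = true := by decide +kernel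

theorem lv5 : okL 752 am 157 (E6Chn.chn.lev.getD 4 []) = true := by decide +kernel

theorem lv6 : okL 752 am 5 (E6Chn.chn.lev.getD 5 []) = true := by decide +kernel

theorem lv7 : okL 752 am 5 (E6Chn.chn.lev.getD 6 []) = true := by decide +kernel

theorem lv8 : okL 752 am 1 (E6Chn.chn.lev.getD 7 []) = true := by decide +kernel

theorem lv9 : okL 752 am 1 (E6Chn.chn.lev.getD 8 []) = true := by decide +kernel

theorem lv10 : okL 752 am 1 (E6Chn.chn.lev.getD 9 []) = true := by decide +kernel

theorem lv11 : okL 752 am 1 (E6Chn.chn.lev.getD 10 []) = true := by decide +kernel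

theorem lv0 : Nat.beq (Nat.land (am.getD 0 0) 8370132) (am.getD 0 0) = true := by decide +kernel

theorem mk0 {x : ℕ} (hx : Nat.testBit 8370132 x = true) : x ∈ [2, 4, 6, 7, 8, 9, 10, 12, 13, 15, 16, 17, 18, 19, 20, 21, 22] :=
  mem_of_mask (by decide +kernel) (by norm_num) hx

theorem mk1 {x : ℕ} (hx : Nat.testBit 1433535 x = true) : x ∈ [0, 1, 2, 3, 4, 5, 7, 8, 9, 10, 11, 12, 14, 15, 16, 18, 20] :=
  mem_of_mask (by decide +kernel) (by norm_num) hx

theorem mk2 {x : ℕ} (hx : Nat.testBit 103359 x = true) : x ∈ [0, 1, 2, 3, 4, 5, 7, 8, 9, 12, 15, 16] :=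
  mem_of_mask (by decide +kernel) (by norm_num) hx

theorem mk3 {x : ℕ} (hx : Nat.testBit 669 x = true) : x ∈ [0, 2, 3, 4, 7, 9] :=
  mem_of_mask (by decide +kernel) (by norm_num) hx

theorem mk4 {x : ℕ} (hx : Nat.testBit 157 x = true) : x ∈ [0, 2, 3, 4, 7] :=
  mem_of_mask (by decide +kernel) (by norm_num) hx

theorem mk5 {x : ℕ} (hx : Nat.testBit 157 x = true) : x ∈ [0, 2, 3, 4, 7] :=
  mem_of_mask (by decide +kernel) (by norm_num) hx

theorem mk6 {x : ℕ} (hx : Nat.testBit 5 x = true) : x ∈ [0, 2] :=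
  mem_of_mask (by decide +kernel) (by norm_num) hx

theorem mk7 {x : ℕ} (hx : Nat.testBit 5 x = true) : x ∈ [0, 2] :=
  mem_of_mask (by decide +kernel) (by norm_num) hx

theorem mk8 {x : ℕ} (hx : Nat.testBit 1 x = true) : x ∈ [0] :=
  mem_of_mask (by decide +kernel) (by norm_num) hx

theorem mk9 {x : ℕ} (hx : Nat.testBit 1 x = true) : x ∈ [0] :=
  mem_of_mask (by decide +kernel) (by norm_num) hx

theorem mk10 {x : ℕ} (hx : Nat.testBit 1 x = true) : x ∈ [0] :=
  mem_of_mask (by decide +kernel) (by norm_num) hx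

theorem mk11 {x : ℕ} (hx : Nat.testBit 1 x = true) : x ∈ [0] :=
  mem_of_mask (by decide +kernel) (by norm_num) hx

theorem cAll : ∀ i < 25, E6PM.cr.chkAll 6 (E6PM.cr.mdi i) E6PM.cr.latc (ct.getD i []) = true := by
  intro i hi
  interval_cases i
  · exact E6PC0.ck0
  · exact E6PC0.ck1
  · exact E6PC0.ck2
  · exact E6PC0.ck3
  · exact E6PC0.ck4
  · exact E6PC1.ck5
  · exact E6PC1.ck6
  · exact E6PC1.ck7
  · exact E6PC1.ck8
  · exact E6PC1.ck9
  · exact E6PC2.ck10
  · exact E6PC2.ck11
  · exact E6PC2.ck12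
  · exact E6PC2.ck13
  · exact E6PC2.ck14
  · exact E6PC3.ck15
  · exact E6PC3.ck16
  · exact E6PC3.ck17
  · exact E6PC3.ck18
  · exact E6PC3.ck19
  · exact E6PC4.ck20
  · exact E6PC4.ck21
  · exact E6PC4.ck22
  · exact E6PC4.ck23
  · exact E6PC4.ck24

theorem tabs : Tabs2 chevE6 6 E6Dat.dat E6Chn.chn E6PM.cr (1) ct where
  hl := rfl
  row := by
    unfold RowOK
    decide
  chkR := E6Dat.chkR
  chkP := E6Dat.chkP
  chkC := E6Dat.chkC
  ch := E6Chn.chOK
  lats0 := rfl
  md := by
    intro i hi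
    rw [E6Dat.length_reps] at hi
    have h := E6PM.md_all
    rw [List.all_eq_true] at h
    exact h i (List.mem_range.2 hi)
  ce := by
    intro i hi
    rw [E6Dat.length_reps] at hi
    exact cAll i hi

end Cfsg.Agent.H378.E6PL
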