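import Cfsg.Agent.H378.Eng.Chn

/-!
# Orders of elements of `Y^σ` by certificates (helper378)

* `exists_cert` : `s, u ∈ Y^σ` commuting, `s` of order prime to `p`, `u` of `p`-power order: there is a class `i` such that
  the order of `s` divides `f(q)`, `f` the polynomial of the certificate of the class `i` and the empty lattice, and if
  `u ^ p ^ c ≠ 1`, `n + 1 ≤ p ^ c`, the polynomial of the class `i` and of the lattice of a state of level `n`.
-/

set_option autoImplicit false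
set_option linter.unusedSectionVars false

namespace Cfsg.Agent.H378.Eng

open CoxeterSystem Cfsg Cfsg.Lie Cfsg.Lie.ChevalleyDatum
open Cfsg.Agent.ChevalleyStructure Cfsg.Agent.ChevalleyStructure.Elts Cfsg.Agent.ChevalleyStructure.CoxeterGeom
  Cfsg.Agent.ChevalleyStructure.CoxeterGeomTypes Cfsg.Agent.ChevalleyStructure.NPerm
open Cfsg.Agent.Tits.Roots Cfsg.Agent.Tits.Core Cfsg.Agent.Nodes Cfsg.Agent.Nodes.Reps Cfsg.Agent.Nodes.BNOf
  Cfsg.Agent.Nodes.RGDChev Cfsg.Agent.Nodes.Bruhat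
open Cfsg.Agent.KFacts.RgdField Cfsg.Agent.KFacts.RgdChevCoord
open Cfsg.Agent.BpExc Cfsg.Agent.BpExc.TorCent Cfsg.Agent.BpExc.TorChev Cfsg.Agent.BpExc.Tow
  Cfsg.Agent.BpExc.TowChev Cfsg.Agent.BpExc.Fr Cfsg.Agent.BpExc.NInst Cfsg.Agent.BpExc.LangFr
open Cfsg.Agent.H129.TorusChar

universe u v

/-- the polynomial of a lattice and a class -/
def Crt.pol (E : Crt) (L i : ℕ) : Vc := E.fs.getD ((E.ct.getD L []).getD i (0, [])).1 []

theorem level_al {T : Dat} {C : Chn} {E : Crt} {n : ℕ} {al : List ℕ} (h : chkLv T C E n al = true) {st : ℕ × ℕ}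
    (hst : st ∈ C.lev.getD n []) {i : ℕ} (hi : i < T.reps.length) :
    st.2 < C.lats.length ∧ ∃ a ∈ al, E.pol st.2 i = E.fs.getD a [] := by
  unfold chkLv at h
  simp only [List.all_eq_true, Bool.and_eq_true, decide_eq_true_eq] at h
  obtain ⟨h1, h2⟩ := h st hst
  have h3 := h2 i (List.mem_range.2 hi)
  rw [List.contains_iff_mem] at h3
  exact ⟨h1, _, h3, rfl⟩

theorem order_dvd {G : Type*} [Group G] {k : Type*} [Field k] {s : G} {J : Type*} {b : J → k} (hb : ∀ j, b j ≠ 0)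
    (hs : ∀ a c : ℕ, (∀ j, b j ^ a = b j ^ c) → s ^ a = s ^ c) {n : ℤ} (hn : ∀ j, b j ^ n = 1) :
    (orderOf s : ℤ) ∣ n := by
  have e1 : n = (n.toNat : ℤ) - ((-n).toNat : ℤ) := by omega
  have h1 : s ^ n.toNat = s ^ (-n).toNat := by
    refine hs _ _ fun j => ?_
    have h2 := hn j
    rw [e1, zpow_sub₀ (hb j), zpow_natCast, zpow_natCast, div_eq_one_iff_eq (pow_ne_zero _ (hb j))] at h2
    exact h2
  have h3 : s ^ n = 1 := by
    rw [e1, zpow_sub, zpow_natCast, zpow_natCast, h1, mul_inv_cancel]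
  exact orderOf_dvd_iff_zpow_eq_one.2 h3

variable {D : ChevalleyDatum} {l : ℕ} {M : CoxeterMatrix (Fin l)} (hp : IsType D l M) {k : Type u} [Field k]
  {W : Type v} [Group W] (cs : CoxeterSystem M W)

/-- all checks of the tables -/
structure Tabs (T : Dat) (C : Chn) : Prop where
  hl : T.l = l
  row : RowOK (cartanOf D l) T
  chkR : T.chkR = true
  chkP : T.chkP = true
  chkC : T.chkC = true
  chkCh : T.chkCh C = true
  lats0 : C.lats.getD 0 [] = []
  pos : 0 < C.lats.length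

variable {p e : ℕ} [Fact p.Prime] [CharP k p] {σ : MulAut ↥(D.group k)} {g : (Fin l → ℤ) ≃+ (Fin l → ℤ)}

theorem lin_vsm {M' : List Vc} (ε : ℤ) (x : Fin l → ℤ) :
    lin l (M'.map (vsm ε)) x = ε • lin l M' x := by
  refine hom_ext (φ := lin l (M'.map (vsm ε))) (ψ := ε • lin l M') (fun i => ?_) x
  have key : ∀ N : List Vc, lin l N (Pi.single i 1) = toF l (N.getD i []) := by
    intro N
    rw [lin_apply, Finset.sum_eq_single i]
    · rw [Pi.single_eq_same, one_smul]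
    · intro j _ hj
      rw [Pi.single_eq_of_ne hj, zero_smul]
    · intro hi
      exact absurd (Finset.mem_univ i) hi
  rw [key, AddMonoidHom.smul_apply, key, ← toF_vsm]
  congr 1
  have h := List.getD_map (l := M') (n := (i : ℕ)) (d := []) (vsm ε)
  have h0 : vsm ε [] = [] := rfl
  rw [h0] at h
  exact h

/-- the heights of the positive roots are bounded -/
theorem exists_ht {T : Dat} {C : Chn} (H : Tabs (D := D) (l := l) T C) :
    ∃ N : ℤ, ∀ a, IsRoot cs hp.isCartan a → 0 ≤ a → Tits.Roots.ht a < N := by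
  refine ⟨∑ r ∈ Finset.range T.rts.length, |Tits.Roots.ht (toF l (T.gam r))| + 1, fun a ha h0 => ?_⟩
  obtain ⟨r, hr, rfl⟩ := exists_gam cs hp.isCartan H.hl H.row H.chkR H.chkP ha h0
  have h1 : |Tits.Roots.ht (toF l (T.gam r))| ≤
      ∑ r ∈ Finset.range T.rts.length, |Tits.Roots.ht (toF l (T.gam r))| :=
    Finset.single_le_sum (f := fun r => |Tits.Roots.ht (toF l (T.gam r))|) (fun _ _ => abs_nonneg _)
      (Finset.mem_range.2 hr)
  have h2 := le_abs_self (Tits.Roots.ht (toF l (T.gam r)))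
  linarith

theorem exists_cert [IsAlgClosed k] [Finite W] (hka : BpExc.TorAll.HAlg p k) (hk : LocFin k) (hσ : IsFrob p e σ)
    (F : Fr cs hp.isCartan (TT D k) (XX D l k) σ g) {T : Dat} {C : Chn} {E : Crt}
    (H : Tabs (D := D) (l := l) T C) {ε : ℤ} {w₀ : W} (hg : ∀ x, g x = ε • rep cs hp.isCartan w₀ x)
    (hE : ∀ i < T.reps.length, chkCi l C E ((T.R i).map (vsm ε)) i = true)
    (hS : ∀ n, ∀ st ∈ C.lev.getD n [], st.2 < C.lats.length)
    {s u : ↥(D.group k)} (hσs : σ s = s)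
    (hsu : u * s = s * u) {m : ℕ} (hm : m ≠ 0) (hmp : m.Coprime p) (hsm : s ^ m = 1) {j : ℕ} (huj : u ^ p ^ j = 1) :
    ∃ i < T.reps.length, (orderOf s : ℤ) ∣ fq (E.pol 0 i) ((p ^ e : ℕ) : ℤ) ∧
      ∀ n c : ℕ, n + 1 ≤ p ^ c → u ^ p ^ c ≠ 1 →
        ∃ st ∈ C.lev.getD n [], (orderOf s : ℤ) ∣ fq (E.pol st.2 i) ((p ^ e : ℕ) : ℤ) := by
  obtain ⟨N, hNht⟩ := exists_ht hp cs H
  obtain ⟨w, hw⟩ := exists_pair hp cs hka hk hσ F hNht hσs hsu hm hmp hsm huj
  obtain ⟨v, i, hi, hv⟩ := exists_conj cs hp.isCartan H.hl H.row H.chkR H.chkC (w * w₀)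
  obtain ⟨t, ht, hchi, hpow, hdep⟩ := hw v
  refine ⟨i, hi, ?_⟩
  have hmc := isMC_cX hp ht
  have hlen : (T.R i).length ≤ l := by
    have hC := H.chkC
    unfold Dat.chkC at hC
    simp only [Bool.and_eq_true, List.all_eq_true] at hC
    unfold Dat.R
    rw [List.getD_eq_getElem _ _ hi, ← H.hl]
    simpa using hC.1.1.1 _ (List.getElem_mem hi)
  have hlen' : ((T.R i).map (vsm ε)).length ≤ l := by rw [List.length_map]; exact hlen
  have hq : ∀ x, cX hp t (lin l ((T.R i).map (vsm ε)) x) = cX hp t x ^ p ^ e := by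
    intro x
    rw [lin_vsm, ← hchi x, hg, map_zsmul, map_zsmul, ← rep_mul_apply cs hp.isCartan w w₀, hv]
  have hb : ∀ j : Fin l, cX hp t (sr j) ≠ 0 := fun j => hmc.ne_zero _
  -- the general step
  have key : ∀ L < C.lats.length, (∀ v ∈ C.lats.getD L [], cX hp t (toF l v) = 1) →
      (orderOf s : ℤ) ∣ fq (E.pol L i) ((p ^ e : ℕ) : ℤ) := by
    intro L hL hLP
    have h1 := hE i hi
    unfold chkCi at h1
    rw [List.all_eq_true] at h1
    have h2 := h1 L (List.mem_range.2 hL)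
    let P : AddSubgroup (Fin l → ℤ) :=
      { carrier := {x | cX hp t x = 1}
        zero_mem' := hmc.zero
        add_mem' := fun {a b} ha hb => by
          show cX hp t (a + b) = 1
          have ha' : cX hp t a = 1 := ha
          have hb' : cX hp t b = 1 := hb
          rw [hmc.add, ha', hb', one_mul]
        neg_mem' := fun {a} ha => by
          show cX hp t (-a) = 1
          have ha' : cX hp t a = 1 := ha
          rw [hmc.neg, ha', inv_one] }
    have hP : ∀ x ∈ P, lin l ((T.R i).map (vsm ε)) x ∈ P := by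
      intro x hx
      show cX hp t _ = 1
      have hx' : cX hp t x = 1 := hx
      rw [hq, hx', one_pow]
    have h3 := crt_mem hlen' (P := P) hP (L := C.lats.getD L []) hLP h2
    refine order_dvd hb hpow fun j => ?_
    have h4 := ev_char hlen' hmc hq (bv j) (E.pol L i)
    have h5 : cX hp t (toF l (ev ((T.R i).map (vsm ε)) (E.pol L i) (bv j))) = 1 := h3 j
    rw [h5, toF_bv] at h4
    exact h4.symm
  refine ⟨key 0 H.pos (by rw [H.lats0]; simp), fun n c hn hu => ?_⟩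
  have hne : Expo.dep (SR hp cs t) (p ^ c) ≠ ∅ := fun h0 => hu (hdep c h0)
  obtain ⟨z, hz⟩ := Set.nonempty_iff_ne_empty.2 hne
  have hz' := Expo.dep_anti hn hz
  let P : AddSubgroup (Fin l → ℤ) :=
    { carrier := {x | cX hp t x = 1}
      zero_mem' := hmc.zero
      add_mem' := fun {a b} ha hb => by
        show cX hp t (a + b) = 1
        have ha' : cX hp t a = 1 := ha
        have hb' : cX hp t b = 1 := hb
        rw [hmc.add, ha', hb', one_mul]
      neg_mem' := fun {a} ha => by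
        show cX hp t (-a) = 1
        have ha' : cX hp t a = 1 := ha
        rw [hmc.neg, ha', inv_one] }
  obtain ⟨st, hst, -, h1⟩ := dep_state cs hp.isCartan H.hl H.row H.chkR H.chkP H.chkCh (P := P) n hz'
  exact ⟨st, hst, key _ (hS n st hst) fun v hv => h1 v hv⟩

/-- the order of an element of `Y^σ` -/
theorem exists_order [IsAlgClosed k] [Finite W] (hka : BpExc.TorAll.HAlg p k) (hk : LocFin k) (hσ : IsFrob p e σ)
    (F : Fr cs hp.isCartan (TT D k) (XX D l k) σ g) {T : Dat} {C : Chn} {E : Crt}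
    (H : Tabs (D := D) (l := l) T C) {ε : ℤ} {w₀ : W} (hg : ∀ x, g x = ε • rep cs hp.isCartan w₀ x)
    (hE : ∀ i < T.reps.length, chkCi l C E ((T.R i).map (vsm ε)) i = true)
    (hS : ∀ n, ∀ st ∈ C.lev.getD n [], st.2 < C.lats.length)
    {a : ↥(D.group k)} (hσa : σ a = a) (hn0 : orderOf a ≠ 0) :
    ∃ b m : ℕ, orderOf a = p ^ b * m ∧ ¬ p ∣ m ∧ ∃ i < T.reps.length,
      (m : ℤ) ∣ fq (E.pol 0 i) ((p ^ e : ℕ) : ℤ) ∧
      ∀ n : ℕ, b ≠ 0 → n + 1 ≤ p ^ (b - 1) →
        ∃ st ∈ C.lev.getD n [], (m : ℤ) ∣ fq (E.pol st.2 i) ((p ^ e : ℕ) : ℤ) := by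
  have hpp : p.Prime := Fact.out
  obtain ⟨j, m, hpm, hn⟩ := Nat.exists_eq_pow_mul_and_not_dvd hn0 p hpp.ne_one
  have hm0 : m ≠ 0 := by
    rintro rfl
    rw [mul_zero] at hn
    exact hn0 hn
  have hpj : 0 < p ^ j := pow_pos hpp.pos j
  have hos : orderOf (a ^ p ^ j) = m := by
    rw [orderOf_pow' _ hpj.ne', hn, Nat.gcd_mul_right_left, Nat.mul_div_cancel_left _ hpj]
  have hou : orderOf (a ^ m) = p ^ j := by
    rw [orderOf_pow' _ hm0, hn, Nat.gcd_mul_left_left, Nat.mul_div_cancel _ (Nat.pos_of_ne_zero hm0)]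
  have hmp : m.Coprime p := ((Nat.Prime.coprime_iff_not_dvd hpp).2 hpm).symm
  refine ⟨j, m, hn, hpm, ?_⟩
  obtain ⟨i, hi, h1, h2⟩ := exists_cert hp cs hka hk hσ F H hg hE hS (s := a ^ p ^ j) (u := a ^ m)
    (by rw [map_pow, hσa]) (by rw [← pow_add, ← pow_add, add_comm]) hm0 hmp
    (by rw [← pow_mul, ← hn, pow_orderOf_eq_one]) (j := j)
    (by rw [← pow_mul, mul_comm, ← hn, pow_orderOf_eq_one])
  rw [hos] at h1 h2
  refine ⟨i, hi, h1, fun n hj hnj => h2 n (j - 1) hnj fun h3 => ?_⟩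
  have h4 : p ^ j ∣ p ^ (j - 1) := hou ▸ orderOf_dvd_of_pow_eq_one h3
  rw [Nat.pow_dvd_pow_iff_le_right hpp.one_lt] at h4
  omega

end Cfsg.Agent.H378.Eng
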