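import Mathlib

/-!
# Integer vectors as lists (helper378)

Kernel friendly vectors and matrices (lists of integers; a matrix is the list of the images of the basis vectors), and
their meaning as functions `Fin l → ℤ`.
-/

set_option autoImplicit false

namespace Cfsg.Agent.H378.Eng

abbrev Vc := List ℤ

def vadd : Vc → Vc → Vc
  | [], b => b
  | a, [] => a
  | x :: a, y :: b => (x + y) :: vadd a b

def vsm (n : ℤ) : Vc → Vc
  | [] => []
  | x :: a => (n * x) :: vsm n a

def dot : Vc → Vc → ℤ
  | x :: a, y :: b => x * y + dot a b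
  | _, _ => 0

/-- linear combination -/
def lc : Vc → List Vc → Vc
  | x :: a, v :: L => vadd (vsm x v) (lc a L)
  | _, _ => []

def nz : Vc → Bool
  | [] => true
  | x :: a => (x == 0) && nz a

/-- equality as functions -/
def veq : Vc → Vc → Bool
  | [], b => nz b
  | a, [] => nz a
  | x :: a, y :: b => (x == y) && veq a b

/-- the reflection with root `γ` and coroot functional `c` -/
def rfx (γ c x : Vc) : Vc := vadd x (vsm (-(dot c x)) γ)

theorem vadd_getD : ∀ (a b : Vc) (i : ℕ), (vadd a b).getD i 0 = a.getD i 0 + b.getD i 0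
  | [], b, i => by simp [vadd]
  | x :: a, [], i => by simp [vadd]
  | x :: a, y :: b, 0 => by simp [vadd]
  | x :: a, y :: b, i + 1 => by
    have h := vadd_getD a b i
    simpa [vadd] using h

theorem vsm_getD (n : ℤ) : ∀ (a : Vc) (i : ℕ), (vsm n a).getD i 0 = n * a.getD i 0
  | [], i => by simp [vsm]
  | x :: a, 0 => by simp [vsm]
  | x :: a, i + 1 => by
    have h := vsm_getD n a i
    simpa [vsm] using h

theorem nz_getD : ∀ (a : Vc) (_ : nz a = true) (i : ℕ), a.getD i 0 = 0
  | [], _, i => by simp
  | x :: a, h, 0 => by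
    simp only [nz, Bool.and_eq_true, beq_iff_eq] at h
    simpa using h.1
  | x :: a, h, i + 1 => by
    simp only [nz, Bool.and_eq_true, beq_iff_eq] at h
    simpa using nz_getD a h.2 i

theorem veq_getD : ∀ (a b : Vc) (_ : veq a b = true) (i : ℕ), a.getD i 0 = b.getD i 0
  | [], b, h, i => by
    simp only [veq] at h
    rw [nz_getD b h i]
    simp
  | x :: a, [], h, i => by
    simp only [veq] at h
    rw [nz_getD _ h i]
    simp
  | x :: a, y :: b, h, 0 => by
    simp only [veq, Bool.and_eq_true, beq_iff_eq] at h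
    simpa using h.1
  | x :: a, y :: b, h, i + 1 => by
    simp only [veq, Bool.and_eq_true, beq_iff_eq] at h
    simpa using veq_getD a b h.2 i

/-- the function of a list -/
def toF (l : ℕ) (v : Vc) : Fin l → ℤ := fun i => v.getD i 0

theorem toF_vadd (l : ℕ) (a b : Vc) : toF l (vadd a b) = toF l a + toF l b := funext fun i => vadd_getD a b i

theorem toF_vsm (l : ℕ) (n : ℤ) (a : Vc) : toF l (vsm n a) = n • toF l a := funext fun i => by
  rw [Pi.smul_apply, smul_eq_mul]
  exact vsm_getD n a i

theorem toF_veq {l : ℕ} {a b : Vc} (h : veq a b = true) : toF l a = toF l b := funext fun i => veq_getD a b h i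

theorem toF_nil (l : ℕ) : toF l [] = 0 := funext fun i => by simp [toF]

/-- every function comes from a list -/
theorem toF_ofFn {l : ℕ} (x : Fin l → ℤ) : toF l (List.ofFn x) = x := funext fun i => by
  unfold toF
  rw [List.getD_eq_getElem _ _ (by simp)]
  simp

/-- linear combinations of functions -/
def lcF {l : ℕ} : Vc → List (Fin l → ℤ) → (Fin l → ℤ)
  | x :: a, v :: L => x • v + lcF a L
  | _, _ => 0

theorem toF_lc (l : ℕ) : ∀ (c : Vc) (L : List Vc), toF l (lc c L) = lcF c (L.map (toF l))
  | [], L => by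
    cases L <;> simp [lc, lcF, toF_nil]
  | x :: a, [] => by simp [lc, lcF, toF_nil]
  | x :: a, v :: L => by
    simp only [lc, List.map_cons, lcF]
    rw [toF_vadd, toF_vsm, toF_lc l a L]

/-- additive subgroups contain the linear combinations -/
theorem lcF_mem {l : ℕ} (P : AddSubgroup (Fin l → ℤ)) : ∀ (c : Vc) (L : List (Fin l → ℤ)) (_ : ∀ v ∈ L, v ∈ P),
    lcF c L ∈ P
  | [], L, _ => by
    cases L <;> exact zero_mem _
  | x :: a, [], _ => zero_mem _
  | x :: a, v :: L, h => by
    simp only [lcF]
    exact add_mem (P.zsmul_mem (h v List.mem_cons_self) x) (lcF_mem P a L fun w hw => h w (List.mem_cons_of_mem _ hw))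

theorem lcF_map {l : ℕ} (φ : (Fin l → ℤ) →+ (Fin l → ℤ)) : ∀ (c : Vc) (L : List (Fin l → ℤ)),
    φ (lcF c L) = lcF c (L.map φ)
  | [], L => by
    cases L <;> simp [lcF]
  | x :: a, [] => by simp [lcF]
  | x :: a, v :: L => by
    simp only [List.map_cons, lcF]
    rw [map_add, map_zsmul, lcF_map φ a L]

/-- the basis vectors as lists -/
def bv (i : ℕ) : Vc := List.replicate i 0 ++ [1]

theorem toF_bv {l : ℕ} (i : Fin l) : toF l (bv i) = Pi.single i 1 := by
  funext j
  unfold toF bv
  rcases lt_trichotomy (j : ℕ) (i : ℕ) with h | h | h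
  · rw [List.getD_append _ _ _ _ (by simpa using h), List.getD_replicate _ h, Pi.single_eq_of_ne (by
      rintro rfl; exact lt_irrefl _ h)]
  · have : j = i := Fin.ext h
    subst this
    rw [List.getD_append_right _ _ _ _ (by simp)]
    simp
  · rw [List.getD_append_right _ _ _ _ (by simp; omega), Pi.single_eq_of_ne (by rintro rfl; exact lt_irrefl _ h)]
    simp only [List.length_replicate]
    rw [List.getD_eq_default]
    simp; omega

/-- the sum over the coordinates -/
theorem lcF_eq_sum {l : ℕ} : ∀ (c : Vc) (L : List (Fin l → ℤ)) (n : ℕ), L.length ≤ n →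
    lcF c L = ∑ i ∈ Finset.range n, c.getD i 0 • L.getD i 0
  | [], L, n, _ => by
    cases L <;> simp [lcF]
  | x :: a, [], n, _ => by simp [lcF]
  | x :: a, v :: L, 0, h => by simp at h
  | x :: a, v :: L, n + 1, h => by
    have h1 := lcF_eq_sum a L n (by simpa using h)
    simp only [lcF]
    rw [Finset.sum_range_succ', h1, add_comm]
    simp

/-- the linear map of a matrix -/
def lin (l : ℕ) (M : List Vc) : (Fin l → ℤ) →+ (Fin l → ℤ) where
  toFun x := ∑ i : Fin l, x i • toF l (M.getD i [])
  map_zero' := by simp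
  map_add' x y := by simp only [Pi.add_apply, add_smul, Finset.sum_add_distrib]

theorem lin_apply {l : ℕ} (M : List Vc) (x : Fin l → ℤ) : lin l M x = ∑ i : Fin l, x i • toF l (M.getD i []) := rfl

theorem lin_toF {l : ℕ} {M : List Vc} (hM : M.length ≤ l) (x : Vc) : lin l M (toF l x) = toF l (lc x M) := by
  rw [toF_lc, lcF_eq_sum x _ l (by simpa using hM), lin_apply, Finset.sum_range]
  refine Finset.sum_congr rfl fun i _ => ?_
  congr 1
  have h := List.getD_map (l := M) (n := (i : ℕ)) (d := []) (toF l)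
  rw [toF_nil] at h
  rw [h]

/-- the functional of a list -/
def dotF (l : ℕ) (c : Vc) : (Fin l → ℤ) →+ ℤ where
  toFun x := ∑ i : Fin l, c.getD i 0 * x i
  map_zero' := by simp
  map_add' x y := by simp only [Pi.add_apply, mul_add, Finset.sum_add_distrib]

theorem dotF_apply {l : ℕ} (c : Vc) (x : Fin l → ℤ) : dotF l c x = ∑ i : Fin l, c.getD i 0 * x i := rfl

theorem dot_eq_sum : ∀ (c x : Vc) (n : ℕ), c.length ≤ n → dot c x = ∑ i ∈ Finset.range n, c.getD i 0 * x.getD i 0
  | [], x, n, _ => by cases x <;> simp [dot]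
  | a :: c, [], n, _ => by simp [dot]
  | a :: c, y :: x, 0, h => by simp at h
  | a :: c, y :: x, n + 1, h => by
    have h1 := dot_eq_sum c x n (by simpa using h)
    rw [Finset.sum_range_succ']
    simp only [dot, List.getD_cons_succ, List.getD_cons_zero]
    rw [h1, add_comm]

theorem dotF_toF {l : ℕ} {c : Vc} (hc : c.length ≤ l) (x : Vc) : dotF l c (toF l x) = dot c x := by
  rw [dot_eq_sum c x l hc, dotF_apply, Finset.sum_range]
  rfl

theorem toF_rfx {l : ℕ} {γ c : Vc} (hc : c.length ≤ l) (x : Vc) :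
    toF l (rfx γ c x) = toF l x - dotF l c (toF l x) • toF l γ := by
  unfold rfx
  rw [toF_vadd, toF_vsm, neg_smul, dotF_toF hc, sub_eq_add_neg]

/-- two additive maps which agree on the basis vectors -/
theorem hom_ext {l : ℕ} {A : Type*} [AddCommGroup A] {φ ψ : (Fin l → ℤ) →+ A}
    (h : ∀ i : Fin l, φ (Pi.single i 1) = ψ (Pi.single i 1)) (x : Fin l → ℤ) : φ x = ψ x := by
  have e : x = ∑ i : Fin l, x i • (Pi.single i 1 : Fin l → ℤ) := by
    funext j
    simp [Finset.sum_apply, Pi.single_apply]
  rw [e, map_sum, map_sum]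
  refine Finset.sum_congr rfl fun i _ => ?_
  rw [map_zsmul, map_zsmul, h]

end Cfsg.Agent.H378.Eng
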